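import Groth.Agent.L08.AffVal.Spread
import Mathlib.AlgebraicGeometry.Morphisms.Affine
import Mathlib.AlgebraicGeometry.Morphisms.Flat
import Mathlib.AlgebraicGeometry.Morphisms.QuasiSeparated

/-!
# Affine basic opens meeting the closed fibre

Over a valuation ring with algebraically closed fraction field, a smooth separated scheme with irreducible fibres and
affine generic fibre has a function whose nonvanishing locus is affine and meets the closed fibre.
-/

set_option autoImplicit false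
set_option linter.unusedSectionVars false
set_option linter.style.haveILetI false
set_option backward.isDefEq.respectTransparency.types false

universe u

open CategoryTheory CategoryTheory.Limits AlgebraicGeometry Opposite TopologicalSpace

noncomputable section

namespace Groth.L08.AffVal

variable {V : Type u} [CommRing V] [IsDomain V] [ValuationRing V] {X : Scheme.{u}} (π : X ⟶ Spec (CommRingCat.of V))
  [Smooth π] [IsSeparated π] (hirr : ∀ q : PrimeSpectrum V, IsPreirreducible (π.base ⁻¹' {q}))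

include hirr in
/-- **an affine open meeting the closed fibre contains every affine open whose generic fibre it contains** -/
theorem le_of_generic_le [IsIntegral X] {W W' : X.Opens} (hW : IsAffineOpen W) (hW' : IsAffineOpen W') {x : X}
    (hx : x ∈ W) (hxc : π x = IsLocalRing.closedPoint V)
    (h : ∀ z ∈ W', π z = (⟨⊥, Ideal.isPrime_bot⟩ : PrimeSpectrum V) → z ∈ W) : W' ≤ W := by
  classical
  haveI : X.IsSeparated := ⟨by
    rw [show terminal.from X = π ≫ terminal.from _ from terminal.hom_ext _ _]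
    infer_instance⟩
  haveI : IsAffineHom (pullback.diagonal (terminal.from X)) := inferInstance
  intro y hy
  let D : X.Opens := W' ⊓ W
  have hD : IsAffineOpen D := hW'.inf hW
  -- a nonzero constant whose nonvanishing locus lies in the intersection
  let S : Set Γ(X, W') := {g | X.basicOpen g ≤ D}
  obtain ⟨c, hc, hcJ⟩ : ∃ c : V, c ≠ 0 ∧ cst π W' c ∈ Ideal.span S := by
    by_contra hn
    push Not at hn
    obtain ⟨P, hP, hJP, hPS⟩ := Ideal.exists_le_prime_disjoint (Ideal.span S)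
      ((nonZeroDivisors V).map (cst π W')) (Set.disjoint_left.2 fun g hg hg' => by
        obtain ⟨c, hc, rfl⟩ := hg'
        exact hn c (nonZeroDivisors.ne_zero hc) hg)
    let Pp : PrimeSpectrum Γ(X, W') := ⟨P, hP⟩
    have hz : hW'.fromSpec Pp ∈ W' := hW'.range_fromSpec.le ⟨Pp, rfl⟩
    have hπ : π (hW'.fromSpec Pp) = (⟨⊥, Ideal.isPrime_bot⟩ : PrimeSpectrum V) := by
      rw [proj_fromSpec]
      refine PrimeSpectrum.ext (eq_bot_iff.2 fun c hc => ?_)
      by_contra h0
      exact Set.disjoint_left.1 hPS hc ⟨c, mem_nonZeroDivisors_of_ne_zero h0, rfl⟩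
    obtain ⟨g, hg, hgP⟩ := hW'.exists_basicOpen_le (⟨hW'.fromSpec Pp, hz, h _ hz hπ⟩ : D) hz
    have h1 : Pp ∈ hW'.fromSpec ⁻¹ᵁ X.basicOpen g := hgP
    rw [hW'.fromSpec_preimage_basicOpen] at h1
    exact h1 (hJP (Ideal.subset_span hg))
  let U₀ := X.basicOpen (cst π W' c)
  have hU₀ : U₀ ≤ D := by
    intro z hz
    have hzW' : z ∈ W' := X.basicOpen_le _ hz
    let Pz := hW'.primeIdealOf ⟨z, hzW'⟩
    have hzP : hW'.fromSpec Pz = z := hW'.fromSpec_primeIdealOf ⟨z, hzW'⟩
    have hcP : cst π W' c ∉ Pz.asIdeal := by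
      have h1 : Pz ∈ hW'.fromSpec ⁻¹ᵁ X.basicOpen (cst π W' c) := by
        show hW'.fromSpec Pz ∈ X.basicOpen (cst π W' c)
        rw [hzP]; exact hz
      rw [hW'.fromSpec_preimage_basicOpen] at h1
      exact h1
    obtain ⟨g, hg, hgP⟩ : ∃ g ∈ S, g ∉ Pz.asIdeal := by
      by_contra hn
      push Not at hn
      exact hcP (Ideal.span_le.2 hn hcJ)
    refine hg ?_
    rw [← hzP]
    show Pz ∈ hW'.fromSpec ⁻¹ᵁ X.basicOpen g
    rw [hW'.fromSpec_preimage_basicOpen]
    exact hgP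
  -- the restriction is bijective
  have hne : Nonempty ↥W' := ⟨⟨y, hy⟩⟩
  haveI : IsDomain Γ(X, W') := @IsIntegral.component_integral X _ W' hne
  have hU₀ne : U₀ ≠ ⊥ := fun h0 => by
    have h1 : cst π W' c = 0 := basicOpen_eq_bot_iff _ |>.1 h0
    exact hc (cst_injective π hne (h1.trans (map_zero _).symm))
  haveI : Nonempty ↥U₀ := by
    by_contra hn
    rw [not_nonempty_iff] at hn
    exact hU₀ne (Opens.ext (Set.isEmpty_coe_sort.1 hn))
  haveI : Nonempty ↥(X.basicOpen (cst π W' c)) := ‹Nonempty ↥U₀›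
  have hDne : Nonempty ↥D := ⟨⟨_, hU₀ (Classical.arbitrary ↥U₀).2⟩⟩
  haveI := hDne
  haveI : Nonempty ↥(W' ⊓ W) := hDne
  haveI : IsDomain Γ(X, D) := @IsIntegral.component_integral X _ D hDne
  letI : Algebra Γ(X, W') Γ(X, U₀) := (X.presheaf.map (homOfLE (X.basicOpen_le (cst π W' c))).op).hom.toAlgebra
  haveI : IsLocalization.Away (cst π W' c) Γ(X, U₀) := hW'.isLocalization_basicOpen _
  let r : Γ(X, W') ⟶ Γ(X, D) := X.presheaf.map (homOfLE inf_le_left).op
  have hbij : Function.Bijective r.hom := by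
    refine ⟨map_injective_of_isIntegral X (homOfLE inf_le_left) (H := hDne), fun b => ?_⟩
    obtain ⟨a, ⟨_, N, rfl⟩, hab⟩ :=
      IsLocalization.exists_mk'_eq (Submonoid.powers (cst π W' c)) ((X.presheaf.map (homOfLE hU₀).op).hom b)
    have h1 : r.hom a = cst π D (c ^ N) * b := by
      apply map_injective_of_isIntegral X (homOfLE hU₀) (H := ‹Nonempty ↥U₀›)
      rw [map_mul, cst_res, ← hab, ← CommRingCat.comp_apply, ← X.presheaf.map_comp]
      have h2 := IsLocalization.mk'_spec Γ(X, U₀) a (⟨_, N, rfl⟩ : Submonoid.powers (cst π W' c))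
      rw [mul_comm] at h2
      refine h2.symm.trans ?_
      congr 1
      show (X.presheaf.map _).hom (cst π W' c ^ N) = cst π U₀ (c ^ N)
      rw [map_pow, cst_res, map_pow]
    obtain ⟨a', ha'⟩ := dvd_of_open π hirr hx hxc (c ^ N) (pow_ne_zero _ hc) a fun z hz hzW =>
      ⟨D, inf_le_left, ⟨hz, hzW⟩, b, h1⟩
    refine ⟨a', mul_left_cancel₀ (a := cst π D (c ^ N)) (fun h0 => pow_ne_zero N hc
      (cst_injective π hDne (h0.trans (map_zero _).symm))) ?_⟩
    rw [← h1, ha', map_mul, cst_res]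
  haveI : IsIso r := (ConcreteCategory.isIso_iff_bijective r).2 hbij
  have e : Spec.map r ≫ hW'.fromSpec = hD.fromSpec := hW'.map_fromSpec hD _
  have hrange : Set.range hW'.fromSpec ⊆ Set.range hD.fromSpec := by
    rintro _ ⟨P, rfl⟩
    obtain ⟨Q, rfl⟩ := (Spec.map r).surjective P
    exact ⟨Q, by rw [← e]; rfl⟩
  rw [hW'.range_fromSpec, hD.range_fromSpec] at hrange
  exact (hrange hy).2

/-- functions on the generic fibre are global functions over constants -/
theorem exists_clear [QuasiCompact π] {K : Type u} [Field K] [Algebra V K] [IsFractionRing V K]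
    (h : Γ(pullback π (Spec.map (CommRingCat.ofHom (algebraMap V K))), ⊤)) :
    ∃ (c : V) (a : Γ(X, ⊤)), c ≠ 0 ∧
      (pullback.fst π (Spec.map (CommRingCat.ofHom (algebraMap V K)))).appTop.hom a =
        (pullback.fst π (Spec.map (CommRingCat.ofHom (algebraMap V K)))).appTop.hom (cst π ⊤ c) * h := by
  classical
  let ξ := Spec.map (CommRingCat.ofHom (algebraMap V K))
  haveI : Flat ξ := (HasRingHomProperty.Spec_iff (P := @Flat)).2
    (RingHom.flat_algebraMap_iff.2 (IsLocalization.flat K (nonZeroDivisors V)))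
  haveI : CompactSpace X := QuasiCompact.compactSpace_of_compactSpace π
  haveI : QuasiSeparatedSpace X := quasiSeparatedSpace_of_quasiSeparated π
  let pr := pullback.fst π ξ
  let sn := pullback.snd π ξ
  have H : IsPullback pr sn π ξ := IsPullback.of_hasPullback π ξ
  have hle : (⊤ : (pullback π ξ).Opens) = pr ⁻¹ᵁ ⊤ ⊓ sn ⁻¹ᵁ ⊤ := by simp
  haveI hiso : IsIso (pushoutSection H (US := ⊤) (UT := ⊤) (UX := ⊤) (by simp) (by simp) hle) :=
    isIso_pushoutSection_of_isQuasiSeparated_of_flat_right H _ _ hle (isAffineOpen_top _) (isAffineOpen_top _)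
      isCompact_univ isQuasiSeparated_univ
  have hp := (isIso_pushoutSection_iff ..).1 hiso
  let f₁ : Γ(X, ⊤) ⟶ Γ(pullback π ξ, ⊤) := pr.appLE ⊤ ⊤ (by simp)
  let f₂ : Γ(Spec (CommRingCat.of K), ⊤) ⟶ Γ(pullback π ξ, ⊤) := sn.appLE ⊤ ⊤ (by simp)
  have hf₁ : pr.appTop = f₁ := Scheme.Hom.app_eq_appLE _
  have hcst : ∀ v : V, f₁.hom (cst π ⊤ v) =
      f₂.hom ((Scheme.ΓSpecIso (CommRingCat.of K)).inv.hom (algebraMap V K v)) := by
    intro v
    have h1 := congrArg (fun m : Γ(Spec (CommRingCat.of V), ⊤) ⟶ Γ(pullback π ξ, ⊤) =>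
      m.hom ((Scheme.ΓSpecIso (CommRingCat.of V)).inv.hom v)) hp.w
    refine h1.trans ?_
    show f₂.hom ((ξ.appLE ⊤ ⊤ _).hom _) = _
    congr 1
    have h3 : ξ.appLE ⊤ ⊤ le_top = ξ.appTop := (Scheme.Hom.app_eq_appLE _).symm
    show (ξ.appLE ⊤ ⊤ le_top).hom _ = _
    rw [h3]
    exact congrArg (fun m => m.hom v) (Scheme.ΓSpecIso_inv_naturality (CommRingCat.ofHom (algebraMap V K))).symm
  let R : Subring Γ(pullback π ξ, ⊤) :=
    { carrier := {h | ∃ (c : V) (a : Γ(X, ⊤)), c ≠ 0 ∧ f₁.hom a = f₁.hom (cst π ⊤ c) * h}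
      mul_mem' := by
        rintro h h' ⟨c, a, hc, e⟩ ⟨c', a', hc', e'⟩
        exact ⟨c * c', a * a', mul_ne_zero hc hc', by simp only [map_mul, e, e']; ring⟩
      one_mem' := ⟨1, 1, one_ne_zero, by simp⟩
      add_mem' := by
        rintro h h' ⟨c, a, hc, e⟩ ⟨c', a', hc', e'⟩
        exact ⟨c * c', cst π ⊤ c' * a + cst π ⊤ c * a', mul_ne_zero hc hc', by
          simp only [map_mul, map_add, e, e']; ring⟩
      zero_mem' := ⟨1, 0, one_ne_zero, by simp⟩
      neg_mem' := by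
        rintro h ⟨c, a, hc, e⟩
        exact ⟨c, -a, hc, by simp only [map_neg, e]; ring⟩ }
  have h₁ : ∀ a, f₁.hom a ∈ R := fun a => ⟨1, a, one_ne_zero, by simp⟩
  have h₂ : ∀ s, f₂.hom s ∈ R := fun s => by
    obtain ⟨k, rfl⟩ : ∃ k, (Scheme.ΓSpecIso (CommRingCat.of K)).inv.hom k = s :=
      ⟨(Scheme.ΓSpecIso (CommRingCat.of K)).hom.hom s, by
        rw [← CommRingCat.comp_apply, Iso.hom_inv_id]; rfl⟩
    obtain ⟨v, w, hw, rfl⟩ := IsFractionRing.div_surjective (A := V) k
    refine ⟨w, cst π ⊤ v, nonZeroDivisors.ne_zero hw, ?_⟩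
    rw [hcst, hcst, ← map_mul, ← map_mul]
    congr 2
    rw [mul_div_cancel₀ _ (IsFractionRing.to_map_ne_zero_of_mem_nonZeroDivisors hw)]
  let g₁ : Γ(X, ⊤) ⟶ CommRingCat.of R := CommRingCat.ofHom (f₁.hom.codRestrict R h₁)
  let g₂ : Γ(Spec (CommRingCat.of K), ⊤) ⟶ CommRingCat.of R := CommRingCat.ofHom (f₂.hom.codRestrict R h₂)
  let incl : CommRingCat.of R ⟶ Γ(pullback π ξ, ⊤) := CommRingCat.ofHom R.subtype
  let s := hp.desc g₁ g₂ (CommRingCat.hom_ext (RingHom.ext fun v => Subtype.ext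
    (congrArg (fun m : Γ(Spec (CommRingCat.of V), ⊤) ⟶ Γ(pullback π ξ, ⊤) => m.hom v) hp.w)))
  have hs : s ≫ incl = 𝟙 _ := hp.hom_ext
    (by rw [hp.inl_desc_assoc, Category.comp_id]; rfl) (by rw [hp.inr_desc_assoc, Category.comp_id]; rfl)
  have hmem : h ∈ R := by
    have h3 : incl.hom (s.hom h) = h := congrArg (fun m => m.hom h) hs
    rw [← h3]
    exact (s.hom h).2
  obtain ⟨c, a, hc, e⟩ := hmem
  exact ⟨c, a, hc, by rw [hf₁]; exact e⟩

variable [QuasiCompact π] [IsAlgClosed (FractionRing V)]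

include hirr in
/-- **an affine nonvanishing locus meeting the closed fibre** -/
theorem exists_affine_basicOpen [IsIntegral X]
    [IsAffine (pullback π (Spec.map (CommRingCat.ofHom (algebraMap V (FractionRing V)))))] {x : X}
    (hxc : π x = IsLocalRing.closedPoint V) :
    ∃ (a : Γ(X, ⊤)) (x' : X), IsAffineOpen (X.basicOpen a) ∧ x' ∈ X.basicOpen a ∧
      π x' = IsLocalRing.closedPoint V := by
  classical
  let ξ := Spec.map (CommRingCat.ofHom (algebraMap V (FractionRing V)))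
  let Y := pullback π ξ
  let pr : Y ⟶ X := pullback.fst π ξ
  obtain ⟨_, ⟨W, hW, rfl⟩, hxW, -⟩ := X.isBasis_affineOpens.exists_subset_of_mem_open (Set.mem_univ x) isOpen_univ
  -- a point of the generic fibre in the affine open
  obtain ⟨W₁, hW₁, hxW₁, hW₁W, n, φ, hφ, hC⟩ := exists_chart π (U := W) hxW
  obtain ⟨P, -, hPp, hP⟩ := exists_generic_below φ hφ ⊥ (hW₁.primeIdealOf ⟨x, hxW₁⟩).asIdeal bot_le
  let η₀ : PrimeSpectrum V := ⟨⊥, Ideal.isPrime_bot⟩
  have hη : ξ (IsLocalRing.closedPoint (FractionRing V)) = η₀ := by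
    refine PrimeSpectrum.ext ?_
    show Ideal.comap (algebraMap V (FractionRing V)) (IsLocalRing.maximalIdeal (FractionRing V)) = ⊥
    rw [IsLocalRing.maximalIdeal_eq_bot, ← RingHom.ker_eq_comap_bot]
    exact (RingHom.injective_iff_ker_eq_bot _).1 (IsFractionRing.injective V _)
  obtain ⟨y, hy, -⟩ := Scheme.Pullback.exists_preimage_pullback (f := π) (g := ξ)
    (hW₁.fromSpec ⟨P, hPp⟩) (IsLocalRing.closedPoint (FractionRing V)) (by
      rw [proj_fromSpec, hη]; exact PrimeSpectrum.ext (comap_map_C hC hP))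
  have hyW : y ∈ pr ⁻¹ᵁ W := by
    show pr y ∈ W
    rw [hy]; exact hW₁W (hW₁.range_fromSpec.le ⟨_, rfl⟩)
  obtain ⟨h, hh, hyh⟩ := (isAffineOpen_top Y).exists_basicOpen_le (V := pr ⁻¹ᵁ W) ⟨y, hyW⟩ trivial
  obtain ⟨c, a, hc, hca⟩ := exists_clear π (K := FractionRing V) h
  -- constants are units on the generic fibre
  have hu : ∀ v : V, v ≠ 0 → IsUnit (pr.appTop.hom (cst π ⊤ v)) := by
    intro v hv
    have e : pr.appTop.hom (cst π ⊤ v) = (pullback.snd π ξ).appTop.hom
        ((Scheme.ΓSpecIso (CommRingCat.of (FractionRing V))).inv.hom (algebraMap V _ v)) := by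
      have h1 : (pr ≫ π).appTop = (pullback.snd π ξ ≫ ξ).appTop := by rw [pullback.condition]
      rw [Scheme.Hom.comp_appTop, Scheme.Hom.comp_appTop] at h1
      have h2 := congrArg (fun m => m.hom ((Scheme.ΓSpecIso (CommRingCat.of V)).inv.hom v)) h1
      have h3 : π.appLE ⊤ ⊤ le_top = π.appTop := (Scheme.Hom.app_eq_appLE _).symm
      show pr.appTop.hom ((π.appLE ⊤ ⊤ le_top).hom _) = _
      rw [h3]
      refine h2.trans ?_
      show (pullback.snd π ξ).appTop.hom (ξ.appTop.hom _) = _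
      congr 1
      exact congrArg (fun m => m.hom v)
        (Scheme.ΓSpecIso_inv_naturality (CommRingCat.ofHom (algebraMap V (FractionRing V)))).symm
    rw [e]
    exact ((isUnit_iff_ne_zero.2 fun h0 => hv (IsFractionRing.injective V _ (h0.trans (map_zero _).symm))).map
      _).map _
  have hbo : ∀ {v : V}, v ≠ 0 → ∀ s : Γ(Y, ⊤), Y.basicOpen (pr.appTop.hom (cst π ⊤ v) * s) = Y.basicOpen s :=
    fun hv s => by rw [Scheme.basicOpen_mul, Scheme.basicOpen_of_isUnit _ (hu _ hv), top_inf_eq]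
  have ha0 : a ≠ 0 := fun h0 => by
    have h1 : Y.basicOpen (pr.appTop.hom (cst π ⊤ c) * h) = ⊥ := by
      rw [← hca, h0, map_zero, Scheme.basicOpen_zero]
    rw [hbo hc] at h1
    rw [h1] at hyh
    exact hyh
  obtain ⟨c', a₁, hc', haa, x', hx'a, hx'c, hx'x⟩ := exists_content' π hirr (U := ⊤) (trivial) hxc a ha0
  have hx'W : x' ∈ W := hx'x.mem_open W.2 hxW
  have hgen : ∀ z ∈ X.basicOpen a₁, π z = η₀ → z ∈ W := by
    intro z hz hzπ
    obtain ⟨y', hy', -⟩ := Scheme.Pullback.exists_preimage_pullback (f := π) (g := ξ) z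
      (IsLocalRing.closedPoint (FractionRing V)) (hzπ.trans hη.symm)
    have h1 : y' ∈ Y.basicOpen (pr.appTop.hom a₁) := by
      have h2 : y' ∈ pr ⁻¹ᵁ X.basicOpen a₁ := by show pr y' ∈ X.basicOpen a₁; rw [hy']; exact hz
      rwa [Scheme.preimage_basicOpen] at h2
    have h3 : Y.basicOpen h = Y.basicOpen (pr.appTop.hom a₁) := by
      rw [← hbo hc h, ← hca, haa, map_mul, hbo hc']
    rw [← hy']
    exact hh (h3 ▸ h1)
  let aW : Γ(X, W) := (X.presheaf.map (homOfLE le_top).op).hom a₁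
  have hU : IsAffineOpen (X.basicOpen aW) := hW.basicOpen aW
  have hUeq : X.basicOpen aW = W ⊓ X.basicOpen a₁ := Scheme.basicOpen_res _ _ _
  have hx'U : x' ∈ X.basicOpen aW := by rw [hUeq]; exact ⟨hx'W, hx'a⟩
  have hle : X.basicOpen a₁ ≤ X.basicOpen aW := by
    intro z hz
    obtain ⟨_, ⟨W', hW', rfl⟩, hzW', hW'a⟩ :=
      X.isBasis_affineOpens.exists_subset_of_mem_open hz (X.basicOpen a₁).2
    refine le_of_generic_le π hirr hU hW' hx'U hx'c (fun w hw hwπ => ?_) hzW'
    rw [hUeq]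
    exact ⟨hgen w (hW'a hw) hwπ, hW'a hw⟩
  have heq : X.basicOpen a₁ = X.basicOpen aW := le_antisymm hle (by rw [hUeq]; exact inf_le_right)
  exact ⟨a₁, x', heq ▸ hU, hx'a, hx'c⟩

end Groth.L08.AffVal
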