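import Groth.Agent.L08.AffVal.Gauss
import Mathlib.RingTheory.Ideal.GoingDown
import Mathlib.RingTheory.Flat.EquationalCriterion
import Mathlib.RingTheory.Etale.Basic
import Mathlib.RingTheory.Etale.QuasiFinite
import Mathlib.RingTheory.Unramified.LocalStructure
import Mathlib.RingTheory.Smooth.Flat
import Mathlib.RingTheory.Spectrum.Prime.Topology

/-!
# Etale coordinates over valuation domains: divisibility spreads from relative generic points

If a constant divides a function near the generic point of a fibre, it divides it along the whole fibre.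
-/

set_option autoImplicit false
set_option linter.unusedSectionVars false
set_option linter.style.haveILetI false

universe u

open MvPolynomial

namespace Groth.L08.AffVal

variable {V : Type u} [CommRing V] [IsDomain V] [ValuationRing V] {B : Type u} [CommRing B] [Algebra V B] {n : ℕ}
  [Algebra (MvPolynomial (Fin n) V) B] [IsScalarTower V (MvPolynomial (Fin n) V) B]
  [Algebra.Etale (MvPolynomial (Fin n) V) B]

/-- the relative generic point of a fibre generalises to every point of the fibre -/
theorem le_of_generic (hirr : ∀ q : PrimeSpectrum V,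
      IsPreirreducible (PrimeSpectrum.comap (algebraMap V B) ⁻¹' {q})) (q' : Ideal V) [q'.IsPrime] (P X' : Ideal B)
    [hP : P.IsPrime] [hX' : X'.IsPrime]
    (hgen : P.comap (algebraMap (MvPolynomial (Fin n) V) B) = q'.map C)
    (hX'q : X'.comap (algebraMap V B) = q') : P ≤ X' := by
  classical
  let A := MvPolynomial (Fin n) V
  let φ := algebraMap A B
  have hφC : ∀ v : V, φ (C v) = algebraMap V B v := fun v =>
    (IsScalarTower.algebraMap_apply V A B v).symm
  have hPq : P.comap (algebraMap V B) = q' := by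
    ext v
    rw [Ideal.mem_comap, ← hφC, ← Ideal.mem_comap, hgen, mem_map_C_iff]
    refine ⟨fun h => by simpa using h 0, fun hv m => ?_⟩
    rw [coeff_C]
    split_ifs
    · exact hv
    · exact zero_mem _
  intro x hx
  by_contra hxX
  let M : Submonoid B := P.primeCompl ⊔ Submonoid.powers x
  by_cases hM : Disjoint ((q'.map (algebraMap V B) : Ideal B) : Set B) M
  · obtain ⟨P₄, hP₄, hqP₄, hP₄M⟩ := Ideal.exists_le_prime_disjoint _ M hM
    haveI := hP₄
    have h4 : P₄ ≤ P := fun y hy => by
      by_contra hn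
      exact Set.disjoint_left.1 hP₄M hy (Submonoid.mem_sup_left (T := _) hn)
    have h5 : P₄.comap φ = P.comap φ := by
      refine le_antisymm (Ideal.comap_mono h4) ?_
      rw [hgen, Ideal.map_le_iff_le_comap]
      intro v hv
      show φ (C v) ∈ P₄
      rw [hφC]
      exact hqP₄ (Ideal.mem_map_of_mem _ hv)
    have h6 : P₄ = P := Algebra.QuasiFinite.eq_of_le_of_under_eq (R := A) P₄ P h4 h5
    exact Set.disjoint_left.1 hP₄M (h6.symm ▸ hx)
      (Submonoid.mem_sup_right (S := _) (Submonoid.mem_powers x))
  · obtain ⟨y, hy, hyM⟩ := Set.not_disjoint_iff.1 hM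
    obtain ⟨w, hw, z, ⟨k, rfl⟩, rfl⟩ := Submonoid.mem_sup.1 hyM
    let Pp : PrimeSpectrum B := ⟨P, hP⟩
    let Xp : PrimeSpectrum B := ⟨X', hX'⟩
    obtain ⟨R, hR, hRw, hRx⟩ := hirr ⟨q', inferInstance⟩ _ _
      (PrimeSpectrum.basicOpen w).isOpen (PrimeSpectrum.basicOpen x).isOpen
      ⟨Pp, PrimeSpectrum.ext hPq, hw⟩ ⟨Xp, PrimeSpectrum.ext hX'q, hxX⟩
    have hR' : R.asIdeal.comap (algebraMap V B) = q' := congrArg PrimeSpectrum.asIdeal hR
    refine (R.isPrime.mem_or_mem ((Ideal.map_le_iff_le_comap.2 hR'.ge) hy)).elim hRw fun h => hRx ?_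
    exact R.isPrime.mem_of_pow_mem _ h

/-- **divisibility by constants spreads from the generic point of a fibre** -/
theorem exists_notMem_dvd (hirr : ∀ q : PrimeSpectrum V,
      IsPreirreducible (PrimeSpectrum.comap (algebraMap V B) ⁻¹' {q})) (q : Ideal V) [q.IsPrime] (X Y : Ideal B)
    [X.IsPrime] [Y.IsPrime] (hX : X.comap (algebraMap (MvPolynomial (Fin n) V) B) = q.map C)
    (hY : Y.comap (algebraMap V B) = q) (c : V) (b t : B) (ht : t ∉ X) (htb : algebraMap V B c ∣ t * b) :
    ∃ t' ∉ Y, algebraMap V B c ∣ t' * b := by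
  classical
  haveI : Module.Flat (MvPolynomial (Fin n) V) B := inferInstance
  haveI : Module.Flat V B := Module.Flat.trans V (MvPolynomial (Fin n) V) B
  let A := MvPolynomial (Fin n) V
  let φ := algebraMap A B
  have hφC : ∀ v : V, φ (C v) = algebraMap V B v := fun v =>
    (IsScalarTower.algebraMap_apply V A B v).symm
  let I : Ideal B := Submodule.comap (LinearMap.mulRight B b) (Ideal.span {algebraMap V B c})
  have hI : ∀ x, x ∈ I ↔ algebraMap V B c ∣ x * b := fun x => Ideal.mem_span_singleton
  haveI := isPrime_map_C (σ := Fin n) q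
  let S : Submonoid B := ((q.map (C : V →+* A)).primeCompl.map φ) ⊔ Y.primeCompl
  by_cases hd : Disjoint (I : Set B) S
  · exfalso
    obtain ⟨P, hP, hIP, hPS⟩ := Ideal.exists_le_prime_disjoint I S hd
    haveI := hP
    have hPY : P ≤ Y := fun x hx => by
      by_contra hn
      exact Set.disjoint_left.1 hPS hx (Submonoid.mem_sup_right (S := _) hn)
    have hPA : P.comap φ ≤ q.map C := fun x hx => by
      by_contra hn
      exact Set.disjoint_left.1 hPS hx (Submonoid.mem_sup_left (T := _) ⟨x, hn, rfl⟩)
    let q' : Ideal V := P.comap (algebraMap V B)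
    have hgen : P.comap φ = q'.map C := by
      rw [eq_map_C_of_le hPA]
      congr 1
      ext v
      show φ (C v) ∈ P ↔ algebraMap V B v ∈ P
      rw [hφC]
    have hq' : q' ≤ q := fun v hv => hY ▸ hPY hv
    have hXq : X.comap (algebraMap V B) = q := by
      ext v
      rw [Ideal.mem_comap, ← hφC, ← Ideal.mem_comap, hX, mem_map_C_iff]
      refine ⟨fun h => by simpa using h 0, fun hv m => ?_⟩
      rw [coeff_C]
      split_ifs
      · exact hv
      · exact zero_mem _
    haveI : X.LiesOver q := ⟨hXq.symm⟩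
    obtain ⟨X', hX'X, hX', hX'q⟩ := Ideal.exists_ideal_le_liesOver_of_le X (p := q') hq'
    haveI := hX'
    have hPX' : P ≤ X' := le_of_generic hirr q' P X' hgen hX'q.over.symm
    exact ht (hX'X (hPX' (hIP ((hI t).2 htb))))
  · obtain ⟨y, hy, hyS⟩ := Set.not_disjoint_iff.1 hd
    obtain ⟨w, ⟨s, hs, rfl⟩, y', hy', rfl⟩ := Submonoid.mem_sup.1 hyS
    have hs0 : s ≠ 0 := fun h => hs (h ▸ zero_mem _)
    obtain ⟨d, s', -, rfl, i, hi⟩ := exists_primitive hs0
    have hdq : d ∉ q := fun h => hs (Ideal.mul_mem_right _ _ (Ideal.mem_map_of_mem _ h))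
    refine ⟨algebraMap V B d * y', Y.primeCompl.mul_mem (fun h => hdq (hY ▸ h)) hy', ?_⟩
    obtain ⟨z, hz⟩ := (hI _).1 hy
    -- flatness: a primitive multiplier reflects divisibility
    let f : Fin 2 → A := ![s', -C c]
    let xv : Fin 2 → B := ![algebraMap V B d * y' * b, z]
    have hrel : ∑ j, f j • xv j = 0 := by
      simp only [Fin.sum_univ_two, f, xv, Matrix.cons_val_zero, Matrix.cons_val_one, Algebra.smul_def, map_neg,
        show algebraMap A B (C c) = algebraMap V B c from hφC c]
      rw [map_mul, hφC] at hz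
      linear_combination hz
    obtain ⟨m, a, e, hx, ha⟩ := Module.Flat.isTrivialRelation_of_sum_smul_eq_zero hrel
    have h0 : algebraMap V B d * y' * b = ∑ j, a 0 j • e j := hx 0
    rw [h0]
    refine Finset.dvd_sum fun j _ => ?_
    have h1 : s' * a 0 j = C c * a 1 j := by
      have := ha j
      simp only [Fin.sum_univ_two, f, Matrix.cons_val_zero, Matrix.cons_val_one] at this
      linear_combination this
    obtain ⟨a', ha'⟩ := dvd_of_primitive_mul hi ⟨a 1 j, h1⟩
    rw [ha', Algebra.smul_def, map_mul, mul_assoc, show algebraMap A B (C c) = algebraMap V B c from hφC c]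
    exact dvd_mul_right _ _

end Groth.L08.AffVal
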