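import Groth.Agent.L08.AffVal.Chart
import Mathlib.RingTheory.LocalRing.Basic
import Mathlib.RingTheory.IntegralClosure.IntegrallyClosed
import Mathlib.RingTheory.Localization.Integral
import Mathlib.Algebra.GCDMonoid.IntegrallyClosed
import Mathlib.RingTheory.TensorProduct.Free
import Mathlib.FieldTheory.IsAlgClosed.Basic

/-!
# Contents at the generic point of the special fibre

In etale coordinates over a valuation ring with algebraically closed fraction field, the local ring at the generic point
of the special fibre is a valuation ring in which every element is a constant times a unit.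
-/

set_option autoImplicit false
set_option linter.unusedSectionVars false
set_option linter.style.haveILetI false
set_option linter.deprecated false

universe u

open scoped TensorProduct

namespace Groth.L08.AffVal

/-- Seidenberg: a root of a polynomial with a unit coefficient is integral or has integral inverse -/
theorem isInteger_or_isInteger_of_root {O L : Type u} [CommRing O] [IsDomain O] [IsLocalRing O] [IsIntegrallyClosed O]
    [Field L] [Algebra O L] [IsFractionRing O L] (z : L) (a : ℕ → O) (n : ℕ)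
    (h0 : ∑ i ∈ Finset.range (n + 1), algebraMap O L (a i) * z ^ i = 0)
    (hu : ∃ i ≤ n, IsUnit (a i)) : (∃ x : O, algebraMap O L x = z) ∨ ∃ x : O, algebraMap O L x = z⁻¹ := by
  induction n generalizing a with
  | zero =>
    obtain ⟨i, hi, hiu⟩ := hu
    obtain rfl : i = 0 := by omega
    simp at h0
    exact absurd h0 hiu.ne_zero
  | succ n ih =>
    have hint : _root_.IsIntegral O (algebraMap O L (a (n + 1)) * z) := by
      let p : Polynomial O := ∑ i ∈ Finset.range (n + 2), Polynomial.C (a i) * Polynomial.X ^ i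
      have hp : Polynomial.aeval z p = 0 := by simpa [p] using h0
      have hc : p.coeff (n + 1) = a (n + 1) := by
        simp [p, Polynomial.coeff_C_mul, Polynomial.coeff_X_pow]
      by_cases hz : a (n + 1) = 0
      · simpa [hz] using isIntegral_zero
      have hd : p.natDegree = n + 1 := by
        refine le_antisymm (Polynomial.natDegree_sum_le_of_forall_le _ _ fun i hi => ?_)
          (Polynomial.le_natDegree_of_ne_zero (hc ▸ hz))
        exact (Polynomial.natDegree_C_mul_X_pow_le _ _).trans (Finset.mem_range_succ_iff.1 hi)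
      have := isIntegral_leadingCoeff_smul p z hp
      rwa [Polynomial.leadingCoeff, hd, hc, Algebra.smul_def] at this
    obtain ⟨w, hw⟩ := IsIntegrallyClosed.isIntegral_iff.1 hint
    by_cases hlead : IsUnit (a (n + 1))
    · exact Or.inl ⟨↑hlead.unit⁻¹ * w, by
        rw [map_mul, hw, ← mul_assoc, ← map_mul, IsUnit.val_inv_mul, map_one, one_mul]⟩
    by_cases hwu : IsUnit w
    · refine Or.inr ⟨a (n + 1) * ↑hwu.unit⁻¹, ?_⟩
      have h1 : algebraMap O L (↑hwu.unit⁻¹) * (algebraMap O L (a (n + 1)) * z) = 1 := by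
        rw [← hw, ← map_mul, IsUnit.val_inv_mul, map_one]
      rw [map_mul]
      exact eq_inv_of_mul_eq_one_left (by linear_combination h1)
    -- the two top terms combine
    refine ih (fun i => if i = n then a n + w else a i) ?_ ?_
    · rw [Finset.sum_range_succ, Finset.sum_range_succ] at h0
      rw [Finset.sum_range_succ, if_pos rfl, map_add, hw]
      refine Eq.trans ?_ h0
      rw [add_assoc]
      congr 1
      · exact Finset.sum_congr rfl fun i hi => by rw [if_neg (Finset.mem_range.1 hi).ne]
      · ring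
    · obtain ⟨i, hi, hiu⟩ := hu
      rcases Nat.lt_or_ge i n with h | h
      · exact ⟨i, h.le, by rwa [if_neg h.ne]⟩
      · rcases h.eq_or_lt with rfl | h'
        · refine ⟨n, le_rfl, ?_⟩
          rw [if_pos rfl]
          by_contra hn
          exact (IsLocalRing.nonunits_add (mem_nonunits_iff.2 hn)
            (mem_nonunits_iff.2 fun h => hwu ((IsUnit.neg_iff w).1 h))) (by simpa using hiu)
        · obtain rfl : i = n + 1 := by omega
          exact absurd hiu hlead

variable {V : Type u} [CommRing V] [IsDomain V] [ValuationRing V] {B : Type u} [CommRing B] [IsDomain B] [Algebra V B]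
  {n : ℕ} [Algebra (MvPolynomial (Fin n) V) B] [IsScalarTower V (MvPolynomial (Fin n) V) B]
  [Algebra.Etale (MvPolynomial (Fin n) V) B]

/-- elements of an etale algebra are algebraic over the coordinates -/
theorem exists_poly (_hinj : Function.Injective (algebraMap (MvPolynomial (Fin n) V) B)) (b : B) :
    ∃ p : Polynomial (MvPolynomial (Fin n) V), p ≠ 0 ∧ Polynomial.aeval b p = 0 := by
  let A := MvPolynomial (Fin n) V
  let KA := FractionRing A
  haveI : Module.Finite KA (KA ⊗[A] B) := Module.Finite.of_quasiFinite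
  let f : B →ₐ[A] KA ⊗[A] B := Algebra.TensorProduct.includeRight
  have hf : Function.Injective f :=
    Algebra.TensorProduct.includeRight_injective (IsFractionRing.injective A KA)
  obtain ⟨p, hp, hp0⟩ := Algebra.IsIntegral.isIntegral (R := KA) (f b)
  obtain ⟨d, hd⟩ := IsLocalization.integerNormalization_map_to_map (nonZeroDivisors A) p
  refine ⟨IsLocalization.integerNormalization (nonZeroDivisors A) p, ?_, hf ?_⟩
  · intro h
    exact hp.ne_zero ((IsFractionRing.integerNormalization_eq_zero_iff (A := A)).1 h)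
  · rw [map_zero, ← Polynomial.aeval_algHom_apply]
    exact IsLocalization.integerNormalization_aeval_eq_zero (nonZeroDivisors A) p hp0

variable [IsAlgClosed (FractionRing V)]

/-- **every element is a constant times a unit at the generic point of the special fibre** -/
theorem exists_content (hinj : Function.Injective (algebraMap (MvPolynomial (Fin n) V) B)) (X : Ideal B) [X.IsPrime]
    (hX : X.comap (algebraMap (MvPolynomial (Fin n) V) B) =
      (IsLocalRing.maximalIdeal V).map MvPolynomial.C)
    [IsIntegrallyClosed (Localization.AtPrime X)] (b : B) (hb : b ≠ 0) :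
    ∃ (c : V) (b' t : B), t ∉ X ∧ b' ∉ X ∧ t * b = algebraMap V B c * b' := by
  classical
  let A := MvPolynomial (Fin n) V
  let O := Localization.AtPrime X
  let L := FractionRing O
  haveI : IsDomain O := IsLocalization.isDomain_localization X.primeCompl_le_nonZeroDivisors
  have hinjO : Function.Injective (algebraMap B O) := IsLocalization.injective O X.primeCompl_le_nonZeroDivisors
  let ι : B →+* L := (algebraMap O L).comp (algebraMap B O)
  have hι : Function.Injective ι := (IsFractionRing.injective O L).comp hinjO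
  -- coordinates with primitive coefficients are units
  have hprim : ∀ s : A, (∃ i, MvPolynomial.coeff i s = 1) → IsUnit (algebraMap B O (algebraMap A B s)) := by
    rintro s ⟨i, hi⟩
    refine IsLocalization.map_units O (⟨algebraMap A B s, fun h => notMem_map_C hi (IsLocalRing.maximalIdeal V) ?_⟩ :
      X.primeCompl)
    rw [← hX]
    exact h
  have hdec : ∀ s : A, ∃ (d : V) (e : O), IsUnit e ∧
      algebraMap B O (algebraMap A B s) = algebraMap B O (algebraMap V B d) * e := by
    intro s
    by_cases hs : s = 0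
    · exact ⟨0, 1, isUnit_one, by rw [hs, map_zero, map_zero, map_zero, map_zero, zero_mul]⟩
    obtain ⟨d, s', -, rfl, hs'⟩ := exists_primitive hs
    exact ⟨d, _, hprim s' hs', by
      rw [map_mul, map_mul, IsScalarTower.algebraMap_apply V A B d]
      rfl⟩
  -- the local ring is a valuation ring
  have hroot : ∀ (y w : B), w ≠ 0 → (∃ x : O, algebraMap O L x = ι y / ι w) ∨
      ∃ x : O, algebraMap O L x = (ι y / ι w)⁻¹ := by
    intro y w hw
    obtain ⟨p, hp0, hp⟩ := exists_poly hinj y
    obtain ⟨q, hq0, hq⟩ := exists_poly hinj w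
    have hAL : algebraMap A L = ι.comp (algebraMap A B) := by
      rw [IsScalarTower.algebraMap_eq A O L, IsScalarTower.algebraMap_eq A B O]
      rfl
    haveI : Module.IsTorsionFree A L := by
      refine Module.isTorsionFree_iff_smul_eq_zero.2 fun r x h => ?_
      rw [Algebra.smul_def, hAL] at h
      rcases mul_eq_zero.1 h with h | h
      · exact Or.inl (hinj ((hι (h.trans (map_zero ι).symm)).trans (map_zero _).symm))
      · exact Or.inr h
    have hay : IsAlgebraic A (ι y) := ⟨p, hp0, by
      rw [Polynomial.aeval_def, hAL, ← Polynomial.hom_eval₂,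
        ← Polynomial.aeval_def, hp, map_zero]⟩
    have haw : IsAlgebraic A (ι w) := ⟨q, hq0, by
      rw [Polynomial.aeval_def, hAL, ← Polynomial.hom_eval₂,
        ← Polynomial.aeval_def, hq, map_zero]⟩
    obtain ⟨g, hg0, hg⟩ : IsAlgebraic A (ι y / ι w) := by
      rw [div_eq_mul_inv]; exact hay.mul haw.inv
    -- clear the content
    have hsupp : g.support.Nonempty := Polynomial.support_nonempty.2 hg0
    choose d e he hde using fun i => hdec (g.coeff i)
    obtain ⟨i₀, hi₀, hdvd⟩ := exists_dvd_all g.support d hsupp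
    have hd0 : d i₀ ≠ 0 := fun h => by
      have := hde i₀
      rw [h, map_zero, map_zero, zero_mul] at this
      exact Polynomial.mem_support_iff.1 hi₀ (hinj ((hinjO (this.trans (map_zero _).symm)).trans (map_zero _).symm))
    choose! v hv using hdvd
    let a : ℕ → O := fun i => if i ∈ g.support then algebraMap B O (algebraMap V B (v i)) * e i else 0
    have hc : ι (algebraMap V B (d i₀)) ≠ 0 := fun h => hd0 (by
      have h1 := (hι (h.trans (map_zero ι).symm))
      rw [IsScalarTower.algebraMap_apply V A B] at h1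
      exact MvPolynomial.C_injective (Fin n) V ((hinj (h1.trans (map_zero _).symm)).trans (map_zero _).symm))
    refine isInteger_or_isInteger_of_root (O := O) _ a g.natDegree ?_ ⟨i₀, ?_, ?_⟩
    · refine mul_left_cancel₀ hc ?_
      rw [mul_zero, Finset.mul_sum]
      refine Eq.trans (Finset.sum_congr rfl fun i _ => ?_) (Polynomial.aeval_eq_sum_range (x := ι y / ι w) (p := g) ▸ hg)
      rw [Algebra.smul_def, ← mul_assoc]
      congr 1
      rw [hAL]
      show _ = algebraMap O L (algebraMap B O (algebraMap A B (g.coeff i)))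
      by_cases hi : i ∈ g.support
      · simp only [a, if_pos hi, ι, RingHom.comp_apply, hde i, hv i hi, map_mul, mul_assoc]
      · simp only [a, if_neg hi, map_zero, mul_zero, Polynomial.notMem_support_iff.1 hi]
    · exact Polynomial.le_natDegree_of_mem_supp _ hi₀
    · simp only [a, if_pos hi₀]
      have hv1 : v i₀ = 1 := mul_left_cancel₀ hd0 ((hv i₀ hi₀).symm.trans (mul_one _).symm)
      rw [hv1, map_one, map_one, one_mul]
      exact he i₀
  haveI : ValuationRing O := by
    refine (ValuationRing.iff_isInteger_or_isInteger O L).2 fun z => ?_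
    obtain ⟨⟨y, w, hw⟩, rfl⟩ : ∃ yw : Σ' (y : B) (w : B), w ≠ 0, ι yw.1 / ι yw.2.1 = z := by
      obtain ⟨x₁, x₂, hx₂, rfl⟩ := IsFractionRing.div_surjective (A := O) z
      obtain ⟨⟨y₁, s₁⟩, h₁⟩ := IsLocalization.surj X.primeCompl x₁
      obtain ⟨⟨y₂, s₂⟩, h₂⟩ := IsLocalization.surj X.primeCompl x₂
      have hs₁ : ι (s₁ : B) ≠ 0 := fun h => s₁.2 ((hι (h.trans (map_zero ι).symm)) ▸ zero_mem _)
      have hs₂ : ι (s₂ : B) ≠ 0 := fun h => s₂.2 ((hι (h.trans (map_zero ι).symm)) ▸ zero_mem _)
      have h₁' : algebraMap O L x₁ * ι s₁ = ι y₁ := by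
        show _ * algebraMap O L (algebraMap B O s₁) = algebraMap O L _; rw [← map_mul, h₁]; rfl
      have h₂' : algebraMap O L x₂ * ι s₂ = ι y₂ := by
        show _ * algebraMap O L (algebraMap B O s₂) = algebraMap O L _; rw [← map_mul, h₂]; rfl
      have hy₂ : ι y₂ ≠ 0 := by
        rw [← h₂']; exact mul_ne_zero (IsFractionRing.to_map_ne_zero_of_mem_nonZeroDivisors hx₂) hs₂
      refine ⟨⟨y₁ * s₂, y₂ * s₁, fun h => ?_⟩, ?_⟩
      · exact mul_ne_zero hy₂ hs₁ (by rw [← map_mul, h, map_zero])
      · simp only [map_mul, ← h₁', ← h₂']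
        rw [mul_assoc, mul_assoc, mul_comm (ι ↑s₂) (ι ↑s₁), mul_div_mul_right _ _ (mul_ne_zero hs₁ hs₂)]
    exact hroot y w hw
  -- valuations of the terms of a relation
  obtain ⟨p, hp0, hp⟩ := exists_poly hinj b
  choose d e he hde using fun i => hdec (p.coeff i)
  let tm : ℕ → O := fun i => algebraMap B O (algebraMap V B (d i)) * algebraMap B O b ^ i
  have hsum : ∑ i ∈ p.support, tm i * e i = 0 := by
    have h1 := congrArg (algebraMap B O) hp
    rw [Polynomial.aeval_def, Polynomial.eval₂_eq_sum, Polynomial.sum, map_sum, map_zero] at h1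
    refine Eq.trans (Finset.sum_congr rfl fun i _ => ?_) h1
    rw [map_mul, map_pow, hde i]
    ring
  obtain ⟨i₀, hi₀, hdvd⟩ := exists_dvd_all p.support tm (Polynomial.support_nonempty.2 hp0)
  have hd0 : ∀ i ∈ p.support, d i ≠ 0 := fun i hi h => by
    have := hde i
    rw [h, map_zero, map_zero, zero_mul] at this
    exact Polynomial.mem_support_iff.1 hi (hinj ((hinjO (this.trans (map_zero _).symm)).trans (map_zero _).symm))
  have hVO : Function.Injective ((algebraMap B O).comp (algebraMap V B)) := by
    intro x y h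
    have h1 : algebraMap V B x = algebraMap V B y := hinjO h
    rw [IsScalarTower.algebraMap_apply V A B, IsScalarTower.algebraMap_apply V A B] at h1
    exact MvPolynomial.C_injective (Fin n) V (hinj h1)
  have htm : ∀ i ∈ p.support, tm i ≠ 0 := fun i hi => mul_ne_zero
    (fun h => hd0 i hi (hVO (h.trans (map_zero ((algebraMap B O).comp (algebraMap V B))).symm)))
    (pow_ne_zero _ fun h => hb (hinjO (h.trans (map_zero _).symm)))
  choose! v hv using hdvd
  -- another term has the same valuation
  obtain ⟨j, hj, hji, hju⟩ : ∃ j ∈ p.support, j ≠ i₀ ∧ IsUnit (v j) := by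
    by_contra hn
    push Not at hn
    have h1 : v i₀ = 1 := mul_left_cancel₀ (htm i₀ hi₀) ((hv i₀ hi₀).symm.trans (mul_one _).symm)
    have h2 : ∑ i ∈ p.support, v i * e i = 0 := by
      refine mul_left_cancel₀ (htm i₀ hi₀) ?_
      rw [mul_zero, Finset.mul_sum, ← hsum]
      exact Finset.sum_congr rfl fun i hi => by rw [← mul_assoc, ← hv i hi]
    rw [← Finset.add_sum_erase _ _ hi₀, h1, one_mul, add_eq_zero_iff_eq_neg] at h2
    have h3 : ∑ i ∈ p.support.erase i₀, v i * e i ∈ IsLocalRing.maximalIdeal O :=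
      Ideal.sum_mem _ fun i hi => Ideal.mul_mem_right _ _ ((IsLocalRing.mem_maximalIdeal _).2
        (hn i (Finset.mem_of_mem_erase hi) (Finset.ne_of_mem_erase hi)))
    exact (IsLocalRing.mem_maximalIdeal _).1 (neg_mem h3) (h2 ▸ he i₀)
  obtain ⟨i₁, i₂, hlt, hm₂, u, hu⟩ : ∃ (i₁ i₂ : ℕ) (_ : i₁ < i₂) (_ : i₂ ∈ p.support) (u : Oˣ),
      tm i₂ = tm i₁ * u := by
    rcases Nat.lt_or_gt_of_ne hji with h | h
    · exact ⟨j, i₀, h, hi₀, hju.unit⁻¹, by rw [hv j hj, mul_assoc, IsUnit.mul_val_inv, mul_one]⟩
    · exact ⟨i₀, j, h, hj, hju.unit, hv j hj⟩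
  obtain ⟨k, hk0, rfl⟩ : ∃ k, k ≠ 0 ∧ i₂ = i₁ + k := ⟨i₂ - i₁, by omega, by omega⟩
  let β := algebraMap B O b
  let γ := (algebraMap B O).comp (algebraMap V B)
  have hβ : β ≠ 0 := fun h => hb (hinjO (h.trans (map_zero _).symm))
  have hrel : γ (d (i₁ + k)) * β ^ k = γ (d i₁) * u := by
    refine mul_right_cancel₀ (pow_ne_zero i₁ hβ) ?_
    have := hu
    simp only [tm, pow_add] at this
    linear_combination this
  -- the root of the ratio
  have hnu : ∀ v : V, IsUnit (γ v) → IsUnit v := fun v hvu => by
    by_contra hn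
    have hmem : algebraMap V B v ∈ X := by
      rw [IsScalarTower.algebraMap_apply V A B, ← Ideal.mem_comap, hX]
      exact Ideal.mem_map_of_mem _ ((IsLocalRing.mem_maximalIdeal _).2 hn)
    exact (IsLocalization.AtPrime.isUnit_to_map_iff O X _).1 hvu hmem
  have hd2 : d (i₁ + k) ≠ 0 := hd0 _ hm₂
  obtain ⟨r, hr⟩ : ∃ r, d i₁ = d (i₁ + k) * r := by
    rcases ValuationRing.dvd_total (d (i₁ + k)) (d i₁) with h | ⟨r, hr⟩
    · exact h
    have h1 : IsUnit (γ r * β ^ k) := by
      refine ⟨u, (mul_left_cancel₀ (a := γ (d i₁)) (fun h => ?_) ?_).symm⟩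
      · exact hd2 (by rw [hr, hVO (h.trans (map_zero γ).symm), zero_mul])
      · rw [← mul_assoc, ← map_mul, ← hr, hrel]
    have h2 : IsUnit r := hnu r (isUnit_of_mul_isUnit_left h1)
    exact ⟨↑h2.unit⁻¹, by rw [hr, mul_assoc, IsUnit.mul_val_inv, mul_one]⟩
  have hβk : β ^ k = γ r * u := by
    refine mul_left_cancel₀ (fun h => hd2 (hVO (h.trans (map_zero γ).symm))) ?_
    rw [hrel, hr, map_mul, mul_assoc]
  obtain ⟨x, hx⟩ := IsAlgClosed.exists_pow_nat_eq (algebraMap V (FractionRing V) r) (Nat.pos_of_ne_zero hk0)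
  obtain ⟨c, rfl⟩ := IsIntegrallyClosed.isIntegral_iff.1
    (IsIntegral.of_pow (Nat.pos_of_ne_zero hk0) (hx ▸ isIntegral_algebraMap) : _root_.IsIntegral V x)
  have hc : c ^ k = r := IsFractionRing.injective V (FractionRing V) (by rw [map_pow, hx])
  have hc0 : γ c ≠ 0 := fun h => by
    rw [← hc, map_pow, h, zero_pow hk0, zero_mul] at hβk
    exact pow_ne_zero k hβ hβk
  obtain ⟨e', he', hbe⟩ : ∃ e' : O, IsUnit e' ∧ β = γ c * e' := by
    rcases ValuationRing.dvd_total (γ c) β with ⟨z, hz⟩ | ⟨z, hz⟩
    · refine ⟨z, (isUnit_pow_iff hk0).1 ?_, hz⟩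
      rw [← hc, map_pow, hz, mul_pow] at hβk
      exact (mul_left_cancel₀ (pow_ne_zero _ hc0) hβk) ▸ u.isUnit
    · have hz' : IsUnit z := (isUnit_pow_iff hk0).1 (IsUnit.of_mul_eq_one (u : O) ?_)
      · exact ⟨↑hz'.unit⁻¹, Units.isUnit _, by rw [hz, mul_assoc, IsUnit.mul_val_inv, mul_one]⟩
      · rw [← hc, map_pow, hz, mul_pow] at hβk
        exact (mul_left_cancel₀ (pow_ne_zero k hβ) (by linear_combination -hβk : β ^ k * (z ^ k * u) = β ^ k * 1))
  obtain ⟨⟨b', t⟩, hbt⟩ := IsLocalization.surj X.primeCompl e'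
  refine ⟨c, b', t, t.2, fun h => ?_, hinjO ?_⟩
  · have h1 : IsUnit (algebraMap B O b') := hbt ▸ he'.mul (IsLocalization.map_units O t)
    exact (IsLocalization.AtPrime.isUnit_to_map_iff O X b').1 h1 h
  · rw [map_mul, map_mul]
    show _ * β = γ c * algebraMap B O b'
    rw [hbe, ← hbt]
    ring

end Groth.L08.AffVal
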