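import Mathlib.RingTheory.Valuation.ValuationRing
import Mathlib.RingTheory.Polynomial.Basic
import Mathlib.RingTheory.LocalRing.MaximalIdeal.Basic
import Mathlib.Algebra.MvPolynomial.Division

/-!
# Polynomial rings over valuation domains: contents and primes of the relative generic points
-/

set_option autoImplicit false
set_option linter.unusedSectionVars false
set_option linter.style.haveILetI false

universe u v

open MvPolynomial

namespace Groth.L08.AffVal

variable {V : Type u} [CommRing V] [IsDomain V] [ValuationRing V] {σ : Type v}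

/-- finitely many elements have one dividing all of them -/
theorem exists_dvd_all {ι : Type*} (s : Finset ι)
    (c : ι → V) (hs : s.Nonempty) : ∃ i ∈ s, ∀ j ∈ s, c i ∣ c j := by
  induction hs using Finset.Nonempty.cons_induction with
  | singleton a => exact ⟨a, Finset.mem_singleton_self a, fun j hj => (Finset.mem_singleton.1 hj) ▸ dvd_rfl⟩
  | cons a t ha ht ih =>
    obtain ⟨i, hi, h⟩ := ih
    rcases ValuationRing.dvd_total (c a) (c i) with h' | h'
    · refine ⟨a, Finset.mem_cons_self a t, fun j hj => ?_⟩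
      rcases Finset.mem_cons.1 hj with rfl | hj
      · exact dvd_rfl
      · exact h'.trans (h j hj)
    · refine ⟨i, Finset.mem_cons.2 (Or.inr hi), fun j hj => ?_⟩
      rcases Finset.mem_cons.1 hj with rfl | hj
      · exact h'
      · exact h j hj

/-- extended primes are prime -/
theorem isPrime_map_C (q : Ideal V) [q.IsPrime] : (q.map (C : V →+* MvPolynomial σ V)).IsPrime := by
  have e : q.map (C : V →+* MvPolynomial σ V) = RingHom.ker (MvPolynomial.map (σ := σ) (Ideal.Quotient.mk q)) := by
    ext f
    rw [mem_map_C_iff, RingHom.mem_ker, MvPolynomial.ext_iff]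
    simp only [coeff_map, coeff_zero, Ideal.Quotient.eq_zero_iff_mem]
  rw [e]
  exact RingHom.ker_isPrime _

/-- a polynomial is a constant times a primitive one -/
theorem exists_primitive {a : MvPolynomial σ V} (ha : a ≠ 0) :
    ∃ (d : V) (a' : MvPolynomial σ V), d ≠ 0 ∧ a = C d * a' ∧ ∃ i, coeff i a' = 1 := by
  obtain ⟨i, hi, hdvd⟩ := exists_dvd_all a.support (fun j => coeff j a)
    (support_nonempty.2 ha)
  have hci : coeff i a ≠ 0 := mem_support_iff.1 hi
  obtain ⟨a', ha'⟩ : C (coeff i a) ∣ a := by
    rw [C_dvd_iff_dvd_coeff]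
    intro j
    by_cases hj : j ∈ a.support
    · exact hdvd j hj
    · rw [notMem_support_iff.1 hj]
      exact dvd_zero _
  refine ⟨coeff i a, a', hci, ha', i, ?_⟩
  have h2 := congrArg (coeff i) ha'
  rw [coeff_C_mul] at h2
  exact mul_left_cancel₀ hci (h2.symm.trans (mul_one _).symm)

/-- primitive polynomials lie in no extended prime -/
theorem notMem_map_C {a : MvPolynomial σ V} {i : σ →₀ ℕ} (h : coeff i a = 1) (q : Ideal V) [hq : q.IsPrime] :
    a ∉ q.map (C : V →+* MvPolynomial σ V) := fun ha =>
  hq.ne_top ((Ideal.eq_top_iff_one _).2 (h ▸ mem_map_C_iff.1 ha i))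

/-- Gauss: multiplication by a primitive polynomial reflects divisibility by constants -/
theorem dvd_of_primitive_mul {s a : MvPolynomial σ V} {i : σ →₀ ℕ} (h : coeff i s = 1) {c : V}
    (hd : C c ∣ s * a) : C c ∣ a := by
  by_cases ha : a = 0
  · exact ha ▸ dvd_zero _
  obtain ⟨e, a', -, hae, j, hj⟩ := exists_primitive ha
  subst hae
  haveI := isPrime_map_C (σ := σ) (IsLocalRing.maximalIdeal V)
  have hsa : s * a' ∉ (IsLocalRing.maximalIdeal V).map (C : V →+* MvPolynomial σ V) := fun hmem =>
    (Ideal.IsPrime.mem_or_mem ‹_› hmem).elim (notMem_map_C h _) (notMem_map_C hj _)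
  rw [mem_map_C_iff] at hsa
  push Not at hsa
  obtain ⟨m, hm⟩ := hsa
  have h1 : c ∣ coeff m (C e * (s * a')) := by
    refine (C_dvd_iff_dvd_coeff _ _).1 ?_ m
    rwa [mul_left_comm] at hd
  rw [coeff_C_mul] at h1
  have hu : IsUnit (coeff m (s * a')) := by
    by_contra hn
    exact hm ((IsLocalRing.mem_maximalIdeal _).2 hn)
  exact Dvd.dvd.mul_right (map_dvd C (hu.dvd_mul_right.1 h1)) a'

/-- primes inside an extended prime are extended -/
theorem eq_map_C_of_le {q : Ideal V} [q.IsPrime] {P : Ideal (MvPolynomial σ V)} [hP : P.IsPrime]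
    (h : P ≤ q.map C) : P = (P.comap C).map C := by
  refine le_antisymm (fun a ha => ?_) Ideal.map_comap_le
  by_cases h0 : a = 0
  · exact h0 ▸ zero_mem _
  obtain ⟨d, a', -, rfl, i, hi⟩ := exists_primitive h0
  exact Ideal.mul_mem_right _ _ (Ideal.mem_map_of_mem _
    ((hP.mem_or_mem ha).resolve_right fun h' => notMem_map_C hi q (h h')))

end Groth.L08.AffVal
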