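import Groth.Agent.L08.AffVal.Local
import Mathlib.RingTheory.Localization.AtPrime.Basic
import Mathlib.RingTheory.Valuation.ValuationRing
import Mathlib.AlgebraicGeometry.AffineScheme

/-!
# Groups with affine irreducible fibres over valuation rings are affine

A smooth separated quasi-compact group scheme over a valuation ring with algebraically closed fraction field whose
fibres are affine and geometrically irreducible is affine.
-/

set_option autoImplicit false
set_option linter.unusedSectionVars false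
set_option linter.style.haveILetI false
set_option backward.isDefEq.respectTransparency.types false
set_option maxHeartbeats 1000000

universe u

open CategoryTheory CategoryTheory.Limits MonoidalCategory CartesianMonoidalCategory MonObj GrpObj AlgebraicGeometry
open Opposite TopologicalSpace
open Groth.L02.SchDom (IrrFib)

noncomputable section

namespace Groth.L08.AffVal

theorem valuationRing_localization {V : Type u} [CommRing V] [IsDomain V] [ValuationRing V] (q : Ideal V) [q.IsPrime]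
    : ValuationRing (Localization.AtPrime q) := by
  refine ValuationRing.iff_dvd_total.2 ⟨fun a b => ?_⟩
  obtain ⟨x, s, rfl⟩ := IsLocalization.exists_mk'_eq q.primeCompl a
  obtain ⟨y, t, rfl⟩ := IsLocalization.exists_mk'_eq q.primeCompl b
  have key : ∀ (x : V) (s : q.primeCompl), Associated (algebraMap V (Localization.AtPrime q) x)
      (IsLocalization.mk' (Localization.AtPrime q) x s) := fun x s => by
    obtain ⟨u, hu⟩ := IsLocalization.map_units (Localization.AtPrime q) s
    refine Associated.symm ⟨u, ?_⟩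
    rw [hu, IsLocalization.mk'_spec]
  rw [← (key x s).dvd_iff_dvd_left, ← (key y t).dvd_iff_dvd_right, ← (key y t).dvd_iff_dvd_left,
    ← (key x s).dvd_iff_dvd_right]
  exact ((ValuationRing.iff_dvd_total.1 ‹_›).total x y).imp (map_dvd _) (map_dvd _)

/-- fibres over field-valued points are affine if the fibres are -/
theorem isAffine_pullback_point {S X : Scheme.{u}} (f : X ⟶ S)
    (haff : ∀ s : S, IsAffine (pullback f (S.fromSpecResidueField s))) {F : Type u} [Field F]
    (b : Spec (CommRingCat.of F) ⟶ S) : IsAffine (pullback f b) := by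
  let s : S := b (IsLocalRing.closedPoint F)
  let φ : S.residueField s ⟶ CommRingCat.of F := Scheme.SpecToEquivOfField F S b |>.2
  have hb : Spec.map φ ≫ S.fromSpecResidueField s = b := (Scheme.SpecToEquivOfField F S).symm_apply_apply b
  haveI := haff s
  haveI : IsAffine (pullback (pullback.snd f (S.fromSpecResidueField s)) (Spec.map φ)) := inferInstance
  exact IsAffine.of_isIso (pullbackLeftPullbackSndIso f (S.fromSpecResidueField s) (Spec.map φ) ≪≫
    pullback.congrHom rfl hb).inv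

variable {V : Type u} [CommRing V] [IsDomain V] [ValuationRing V]

/-- functions on the localised scheme are global functions over constants -/
theorem exists_clear_loc {X : Scheme.{u}} (π : X ⟶ Spec (CommRingCat.of V)) [QuasiCompact π] [QuasiSeparated π]
    (S : Submonoid V) {L : Type u} [CommRing L] [Algebra V L] [IsLocalization S L]
    (h : Γ(pullback π (Spec.map (CommRingCat.ofHom (algebraMap V L))), ⊤)) :
    ∃ (c : V) (a : Γ(X, ⊤)), c ∈ S ∧
      (pullback.fst π (Spec.map (CommRingCat.ofHom (algebraMap V L)))).appTop.hom a =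
        (pullback.fst π (Spec.map (CommRingCat.ofHom (algebraMap V L)))).appTop.hom (cst π ⊤ c) * h := by
  classical
  let ξ := Spec.map (CommRingCat.ofHom (algebraMap V L))
  haveI : Flat ξ := (HasRingHomProperty.Spec_iff (P := @Flat)).2
    (RingHom.flat_algebraMap_iff.2 (IsLocalization.flat L S))
  haveI : CompactSpace X := QuasiCompact.compactSpace_of_compactSpace π
  haveI : QuasiSeparatedSpace X := quasiSeparatedSpace_of_quasiSeparated π
  let pr := pullback.fst π ξ
  let sn := pullback.snd π ξ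
  have H : IsPullback pr sn π ξ := IsPullback.of_hasPullback π ξ
  have hle : (⊤ : (pullback π ξ).Opens) = pr ⁻¹ᵁ ⊤ ⊓ sn ⁻¹ᵁ ⊤ := by simp
  haveI hiso : IsIso (pushoutSection H (US := ⊤) (UT := ⊤) (UX := ⊤) (by simp) (by simp) hle) :=
    isIso_pushoutSection_of_isQuasiSeparated_of_flat_right H _ _ hle (isAffineOpen_top _) (isAffineOpen_top _)
      isCompact_univ isQuasiSeparated_univ
  have hp := (isIso_pushoutSection_iff ..).1 hiso
  let f₁ : Γ(X, ⊤) ⟶ Γ(pullback π ξ, ⊤) := pr.appLE ⊤ ⊤ (by simp)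
  let f₂ : Γ(Spec (CommRingCat.of L), ⊤) ⟶ Γ(pullback π ξ, ⊤) := sn.appLE ⊤ ⊤ (by simp)
  have hf₁ : pr.appTop = f₁ := Scheme.Hom.app_eq_appLE _
  have hcst : ∀ v : V, f₁.hom (cst π ⊤ v) =
      f₂.hom ((Scheme.ΓSpecIso (CommRingCat.of L)).inv.hom (algebraMap V L v)) := by
    intro v
    have h1 := congrArg (fun m : Γ(Spec (CommRingCat.of V), ⊤) ⟶ Γ(pullback π ξ, ⊤) =>
      m.hom ((Scheme.ΓSpecIso (CommRingCat.of V)).inv.hom v)) hp.w
    refine h1.trans ?_
    show f₂.hom ((ξ.appLE ⊤ ⊤ _).hom _) = _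
    congr 1
    have h3 : ξ.appLE ⊤ ⊤ le_top = ξ.appTop := (Scheme.Hom.app_eq_appLE _).symm
    show (ξ.appLE ⊤ ⊤ le_top).hom _ = _
    rw [h3]
    exact congrArg (fun m => m.hom v) (Scheme.ΓSpecIso_inv_naturality (CommRingCat.ofHom (algebraMap V L))).symm
  let R : Subring Γ(pullback π ξ, ⊤) :=
    { carrier := {h | ∃ (c : V) (a : Γ(X, ⊤)), c ∈ S ∧ f₁.hom a = f₁.hom (cst π ⊤ c) * h}
      mul_mem' := by
        rintro h h' ⟨c, a, hc, e⟩ ⟨c', a', hc', e'⟩
        exact ⟨c * c', a * a', mul_mem hc hc', by simp only [map_mul, e, e']; ring⟩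
      one_mem' := ⟨1, 1, one_mem _, by simp⟩
      add_mem' := by
        rintro h h' ⟨c, a, hc, e⟩ ⟨c', a', hc', e'⟩
        exact ⟨c * c', cst π ⊤ c' * a + cst π ⊤ c * a', mul_mem hc hc', by
          simp only [map_mul, map_add, e, e']; ring⟩
      zero_mem' := ⟨1, 0, one_mem _, by simp⟩
      neg_mem' := by
        rintro h ⟨c, a, hc, e⟩
        exact ⟨c, -a, hc, by simp only [map_neg, e]; ring⟩ }
  have h₁ : ∀ a, f₁.hom a ∈ R := fun a => ⟨1, a, one_mem _, by simp⟩
  have h₂ : ∀ s, f₂.hom s ∈ R := fun s => by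
    obtain ⟨k, rfl⟩ : ∃ k, (Scheme.ΓSpecIso (CommRingCat.of L)).inv.hom k = s :=
      ⟨(Scheme.ΓSpecIso (CommRingCat.of L)).hom.hom s, by
        rw [← CommRingCat.comp_apply, Iso.hom_inv_id]; rfl⟩
    obtain ⟨v, ⟨w, hw⟩, rfl⟩ := IsLocalization.exists_mk'_eq S k
    refine ⟨w, cst π ⊤ v, hw, ?_⟩
    rw [hcst, hcst, ← map_mul, ← map_mul]
    congr 2
    exact (IsLocalization.mk'_spec' L v (⟨w, hw⟩ : S)).symm
  let g₁ : Γ(X, ⊤) ⟶ CommRingCat.of R := CommRingCat.ofHom (f₁.hom.codRestrict R h₁)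
  let g₂ : Γ(Spec (CommRingCat.of L), ⊤) ⟶ CommRingCat.of R := CommRingCat.ofHom (f₂.hom.codRestrict R h₂)
  let incl : CommRingCat.of R ⟶ Γ(pullback π ξ, ⊤) := CommRingCat.ofHom R.subtype
  let s := hp.desc g₁ g₂ (CommRingCat.hom_ext (RingHom.ext fun v => Subtype.ext
    (congrArg (fun m : Γ(Spec (CommRingCat.of V), ⊤) ⟶ Γ(pullback π ξ, ⊤) => m.hom v) hp.w)))
  have hs : s ≫ incl = 𝟙 _ := hp.hom_ext
    (by rw [hp.inl_desc_assoc, Category.comp_id]; rfl) (by rw [hp.inr_desc_assoc, Category.comp_id]; rfl)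
  have h3 : incl.hom (s.hom h) = h := congrArg (fun m => m.hom h) hs
  obtain ⟨c, a, hc, e⟩ : h ∈ R := h3 ▸ (s.hom h).2
  exact ⟨c, a, hc, by rw [hf₁]; exact e⟩

variable [IsAlgClosed (FractionRing V)] {G : Over (Spec (CommRingCat.of V))} [GrpObj G] [Smooth G.hom]
  [QuasiCompact G.hom] [IsSeparated G.hom] (hf : IrrFib G.hom)
  (haff : ∀ s : Spec (CommRingCat.of V), IsAffine (pullback G.hom ((Spec (CommRingCat.of V)).fromSpecResidueField s)))

include hf haff in
/-- every maximal ideal of the functions misses a function with affine nonvanishing locus -/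
theorem exists_affine_notMem (M : Ideal Γ(G.left, ⊤)) [M.IsPrime] :
    ∃ b : Γ(G.left, ⊤), b ∉ M ∧ IsAffineOpen (G.left.basicOpen b) := by
  classical
  let q : Ideal V := M.comap (cst G.hom ⊤)
  haveI : q.IsPrime := Ideal.IsPrime.comap _
  let L := Localization.AtPrime q
  haveI : IsAffine (pullback G.hom (Spec.map (CommRingCat.ofHom (algebraMap V (FractionRing V))))) :=
    isAffine_pullback_point G.hom haff _
  haveI : IsAffine (pullback G.hom (Spec.map (CommRingCat.ofHom (IsLocalRing.residue V)))) :=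
    isAffine_pullback_point G.hom haff _
  haveI : ValuationRing L := valuationRing_localization q
  have hunits : ∀ y : q.primeCompl, IsUnit (algebraMap V (FractionRing V) y) := fun y =>
    IsLocalization.map_units (FractionRing V)
      (⟨(y : V), q.primeCompl_le_nonZeroDivisors y.2⟩ : nonZeroDivisors V)
  letI : Algebra L (FractionRing V) := (IsLocalization.lift (S := L) hunits).toAlgebra
  haveI : IsScalarTower V L (FractionRing V) := IsScalarTower.of_algebraMap_eq fun v =>
    (IsLocalization.lift_eq hunits v).symm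
  haveI : IsFractionRing L (FractionRing V) :=
    IsFractionRing.isFractionRing_of_isDomain_of_isLocalization q.primeCompl L (FractionRing V)
  haveI : IsAlgClosed (FractionRing L) :=
    IsAlgClosed.of_ringEquiv (FractionRing V) (FractionRing L) (FractionRing.algEquiv L (FractionRing V)).symm.toRingEquiv
  let j : Spec (CommRingCat.of L) ⟶ Spec (CommRingCat.of V) := Spec.map (CommRingCat.ofHom (algebraMap V L))
  let G' := Red.bc j G
  let pr : G'.left ⟶ G.left := pullback.fst G.hom j
  haveI : Smooth G'.hom := inferInstanceAs (Smooth (pullback.snd G.hom j))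
  haveI : QuasiCompact G'.hom := inferInstanceAs (QuasiCompact (pullback.snd G.hom j))
  haveI : IsSeparated G'.hom := inferInstanceAs (IsSeparated (pullback.snd G.hom j))
  have hf' : IrrFib G'.hom := hf.baseChange j
  haveI : IsAffine (pullback G'.hom (Spec.map (CommRingCat.ofHom (algebraMap L (FractionRing L))))) := by
    haveI := isAffine_pullback_point G.hom haff (Spec.map (CommRingCat.ofHom (algebraMap L (FractionRing L))) ≫ j)
    exact IsAffine.of_isIso (pullbackLeftPullbackSndIso G.hom j _).hom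
  haveI : IsAffine (pullback G'.hom (Spec.map (CommRingCat.ofHom (IsLocalRing.residue L)))) := by
    haveI := isAffine_pullback_point G.hom haff (Spec.map (CommRingCat.ofHom (IsLocalRing.residue L)) ≫ j)
    exact IsAffine.of_isIso (pullbackLeftPullbackSndIso G.hom j _).hom
  -- constants
  have hcst : ∀ v : V, pr.appTop.hom (cst G.hom ⊤ v) = cst G'.hom ⊤ (algebraMap V L v) := fun v => by
    have h1 := congrArg (fun m => m.appTop.hom ((Scheme.ΓSpecIso (CommRingCat.of V)).inv.hom v))
      (pullback.condition (f := G.hom) (g := j))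
    rw [Scheme.Hom.comp_appTop, Scheme.Hom.comp_appTop] at h1
    have h3 : G.hom.appLE ⊤ ⊤ le_top = G.hom.appTop := (Scheme.Hom.app_eq_appLE _).symm
    have h4 : G'.hom.appLE ⊤ ⊤ le_top = G'.hom.appTop := (Scheme.Hom.app_eq_appLE _).symm
    show pr.appTop.hom ((G.hom.appLE ⊤ ⊤ le_top).hom _) = (G'.hom.appLE ⊤ ⊤ le_top).hom _
    rw [h3, h4]
    refine h1.trans ?_
    show G'.hom.appTop.hom (j.appTop.hom _) = _
    congr 1
    exact congrArg (fun m => m.hom v) (Scheme.ΓSpecIso_inv_naturality (CommRingCat.ofHom (algebraMap V L))).symm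
  -- the localisation is injective
  haveI : Nonempty G.left := ⟨(1 : 𝟙_ (Over (Spec (CommRingCat.of V))) ⟶ G).left (IsLocalRing.closedPoint V)⟩
  haveI : AlgebraicGeometry.IsIntegral G.left := isIntegral G.hom (hirr_of_irrFib hf)
  have hjr : ∀ p : PrimeSpectrum V, p.asIdeal ≤ q → ∃ p' : PrimeSpectrum L, j p' = p := fun p hp => by
    have h0 : p ∈ Set.range (PrimeSpectrum.comap (algebraMap V L)) := by
      rw [PrimeSpectrum.localization_comap_range (S := L) q.primeCompl]
      exact Set.disjoint_left.2 fun x hx hx' => hx (hp hx')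
    exact h0
  have hinj : Function.Injective pr.appTop.hom := by
    refine (injective_iff_map_eq_zero _).2 fun a ha => ?_
    by_contra ha0
    have hne : G.left.basicOpen a ≠ ⊥ := fun h => ha0 ((basicOpen_eq_bot_iff a).1 h)
    obtain ⟨z, hz⟩ : ∃ z, z ∈ G.left.basicOpen a := by
      by_contra hn
      push Not at hn
      exact hne (Opens.ext (Set.eq_empty_iff_forall_notMem.2 hn))
    have hgp : genericPoint G.left ∈ G.left.basicOpen a := (genericPoint_specializes z).mem_open (G.left.basicOpen a).2 hz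
    obtain ⟨z₀, -, hz₀⟩ : ∃ z₀ : G.left, True ∧ (show PrimeSpectrum V from G.hom z₀).asIdeal = ⊥ := by
      obtain ⟨z₀, hz₀⟩ : ∃ z₀ : G.left, G.hom z₀ = (⟨⊥, Ideal.isPrime_bot⟩ : PrimeSpectrum V) :=
        ⟨(1 : 𝟙_ (Over (Spec (CommRingCat.of V))) ⟶ G).left (⟨⊥, Ideal.isPrime_bot⟩ : PrimeSpectrum V), by
          rw [← Scheme.Hom.comp_apply, Over.w]; rfl⟩
      exact ⟨z₀, trivial, congrArg PrimeSpectrum.asIdeal hz₀⟩
    have hspec : (show PrimeSpectrum V from G.hom (genericPoint G.left)) ≤ (show PrimeSpectrum V from G.hom z₀) :=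
      (PrimeSpectrum.le_iff_specializes _ _).2 ((genericPoint_specializes z₀).map G.hom.continuous)
    obtain ⟨p', hp'⟩ := hjr (show PrimeSpectrum V from G.hom (genericPoint G.left))
      (le_trans (le_trans hspec hz₀.le) bot_le)
    obtain ⟨y, hy, -⟩ := Scheme.Pullback.exists_preimage_pullback (f := G.hom) (g := j) (genericPoint G.left) p'
      hp'.symm
    have h1 : y ∈ pr ⁻¹ᵁ G.left.basicOpen a := by show pr y ∈ G.left.basicOpen a; rw [hy]; exact hgp
    rw [Scheme.preimage_basicOpen_top, ha, Scheme.basicOpen_zero] at h1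
    exact h1
  letI : Algebra Γ(G.left, ⊤) Γ(G'.left, ⊤) := pr.appTop.hom.toAlgebra
  let N : Submonoid Γ(G.left, ⊤) := q.primeCompl.map (cst G.hom ⊤)
  have hu : ∀ c ∈ q.primeCompl, IsUnit (pr.appTop.hom (cst G.hom ⊤ c)) := fun c hc => by
    rw [hcst]
    exact (IsLocalization.map_units L (⟨c, hc⟩ : q.primeCompl)).map _
  haveI : IsLocalization N Γ(G'.left, ⊤) :=
    { map_units := by
        rintro ⟨_, c, hc, rfl⟩
        exact hu c hc
      surj := fun h => by
        obtain ⟨c, a, hc, e⟩ := exists_clear_loc G.hom q.primeCompl (L := L) h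
        exact ⟨⟨a, ⟨_, c, hc, rfl⟩⟩, (_root_.mul_comm _ _).trans e.symm⟩
      exists_of_eq := fun h => ⟨1, by rw [hinj h]⟩ }
  have hdisj : Disjoint (N : Set Γ(G.left, ⊤)) (M : Set Γ(G.left, ⊤)) := Set.disjoint_left.2 fun x hx hxM => by
    obtain ⟨c, hc, rfl⟩ := hx
    exact hc hxM
  let M' : Ideal Γ(G'.left, ⊤) := M.map (algebraMap Γ(G.left, ⊤) Γ(G'.left, ⊤))
  haveI : M'.IsPrime := IsLocalization.isPrime_of_isPrime_disjoint N _ M ‹_› hdisj
  have hMM : ∀ a, pr.appTop.hom a ∈ M' → a ∈ M := fun a ha => by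
    have h1 := IsLocalization.under_map_of_isPrime_disjoint N Γ(G'.left, ⊤) (I := M) ‹M.IsPrime› hdisj
    rw [← h1]
    exact ha
  obtain ⟨z', hz', hzM⟩ := exists_point_of_prime hf' M' (fun x hx => by
    obtain ⟨v, s, rfl⟩ := IsLocalization.exists_mk'_eq q.primeCompl x
    rw [IsLocalization.AtPrime.mk'_mem_maximal_iff L q v s] at hx
    have h1 : cst G'.hom ⊤ (algebraMap V L v) ∈ M' := by
      rw [← hcst]; exact Ideal.mem_map_of_mem _ hx
    rw [IsLocalization.mk'_eq_mul_mk'_one, map_mul]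
    exact M'.mul_mem_right _ h1)
  obtain ⟨a', hza, ha'⟩ := exists_affine_of_closed hf' hz'
  -- an affine open around the image
  let z : G.left := pr z'
  obtain ⟨_, ⟨W, hW, rfl⟩, hzW, -⟩ := G.left.isBasis_affineOpens.exists_subset_of_mem_open (Set.mem_univ z) isOpen_univ
  obtain ⟨g, hg, hgz⟩ := ha'.exists_basicOpen_le (V := pr ⁻¹ᵁ W) ⟨z', hzW⟩ hza
  haveI : CompactSpace G'.left := QuasiCompact.compactSpace_of_compactSpace G'.hom
  haveI : QuasiSeparatedSpace G'.left := quasiSeparatedSpace_of_quasiSeparated G'.hom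
  letI : Algebra Γ(G'.left, ⊤) Γ(G'.left, G'.left.basicOpen a') :=
    (G'.left.presheaf.map (homOfLE (le_top : G'.left.basicOpen a' ≤ ⊤)).op).hom.toAlgebra
  haveI : IsLocalization.Away a' Γ(G'.left, G'.left.basicOpen a') :=
    isLocalization_basicOpen_of_qcqs (U := ⊤) isCompact_univ isQuasiSeparated_univ a'
  obtain ⟨c, ⟨_, n, rfl⟩, rfl⟩ := IsLocalization.exists_mk'_eq (Submonoid.powers a') g
  have hbo : G'.left.basicOpen (a' * c) = G'.left.basicOpen
      (IsLocalization.mk' Γ(G'.left, G'.left.basicOpen a') c (⟨_, n, rfl⟩ : Submonoid.powers a')) := by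
    have h1 := IsLocalization.mk'_spec Γ(G'.left, G'.left.basicOpen a') c (⟨_, n, rfl⟩ : Submonoid.powers a')
    have h2 := congrArg G'.left.basicOpen h1
    rw [Scheme.basicOpen_mul, Scheme.basicOpen_of_isUnit _
      (IsLocalization.map_units Γ(G'.left, G'.left.basicOpen a') (⟨_, n, rfl⟩ : Submonoid.powers a'))] at h2
    rw [inf_eq_left.2 (G'.left.basicOpen_le _)] at h2
    rw [h2, Scheme.basicOpen_mul]
    exact (Scheme.basicOpen_res _ _ _).symm
  obtain ⟨⟨b, ⟨_, s, hs, rfl⟩⟩, hb⟩ := IsLocalization.surj N (a' * c)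
  have hD : G'.left.basicOpen (pr.appTop.hom b) = G'.left.basicOpen (a' * c) := by
    show G'.left.basicOpen (algebraMap _ _ b) = _
    rw [← hb, Scheme.basicOpen_mul]
    show G'.left.basicOpen _ ⊓ G'.left.basicOpen (pr.appTop.hom (cst G.hom ⊤ s)) = _
    rw [Scheme.basicOpen_of_isUnit _ (hu s hs), inf_top_eq]
  have hpre : pr ⁻¹ᵁ G.left.basicOpen b ≤ pr ⁻¹ᵁ W := by
    rw [Scheme.preimage_basicOpen_top, hD, hbo]; exact hg
  have hbz : z' ∈ G'.left.basicOpen (pr.appTop.hom b) := by rw [hD, hbo]; exact hgz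
  -- spreading the inclusion
  have key : ∀ W' : G.left.Opens, IsAffineOpen W' → ∃ t : V, t ∈ q.primeCompl ∧
      W' ⊓ G.left.basicOpen (cst G.hom ⊤ t * b) ≤ W := by
    intro W' hW'
    let S : Set Γ(G.left, W') := {g | G.left.basicOpen g ≤ W}
    let bW : Γ(G.left, W') := (G.left.presheaf.map (homOfLE (le_top : W' ≤ ⊤)).op).hom b
    obtain ⟨t, ht, hmem⟩ : ∃ t ∈ q.primeCompl, cst G.hom W' t * bW ∈ (Ideal.span S).radical := by
      by_contra hn
      push Not at hn
      obtain ⟨P, hP, hIP, hPd⟩ := Ideal.exists_le_prime_disjoint (Ideal.span S)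
        (q.primeCompl.map (cst G.hom W') ⊔ Submonoid.powers bW) (Set.disjoint_left.2 fun x hx hx' => by
          obtain ⟨_, ⟨t, ht, rfl⟩, _, ⟨m, rfl⟩, rfl⟩ := Submonoid.mem_sup.1 hx'
          refine hn t ht ⟨m + 1, ?_⟩
          have e : (cst G.hom W' t * bW) ^ (m + 1) = cst G.hom W' t ^ m * bW * (cst G.hom W' t * bW ^ m) := by ring
          rw [e]
          exact Ideal.mul_mem_left _ _ hx)
      let Pp : PrimeSpectrum Γ(G.left, W') := ⟨P, hP⟩
      let w := hW'.fromSpec Pp
      have hwW' : w ∈ W' := hW'.range_fromSpec.le ⟨Pp, rfl⟩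
      have hπw : (show PrimeSpectrum V from G.hom w).asIdeal ≤ q := by
        intro v hv
        by_contra hvq
        rw [show (show PrimeSpectrum V from G.hom w) = _ from proj_fromSpec G.hom hW' Pp] at hv
        exact Set.disjoint_left.1 hPd hv (Submonoid.mem_sup_left ⟨v, hvq, rfl⟩)
      have hwb : w ∈ G.left.basicOpen bW := by
        show Pp ∈ hW'.fromSpec ⁻¹ᵁ G.left.basicOpen bW
        rw [hW'.fromSpec_preimage_basicOpen]
        exact fun h => Set.disjoint_left.1 hPd h (Submonoid.mem_sup_right ⟨1, pow_one _⟩)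
      rw [Scheme.basicOpen_res] at hwb
      obtain ⟨p', hp'⟩ := hjr _ hπw
      obtain ⟨y, hy, -⟩ := Scheme.Pullback.exists_preimage_pullback (f := G.hom) (g := j) w p' hp'.symm
      have hyb : y ∈ pr ⁻¹ᵁ G.left.basicOpen b := by show pr y ∈ G.left.basicOpen b; rw [hy]; exact hwb.2
      have hwW : w ∈ W := by
        have h1 : pr y ∈ W := hpre hyb
        rwa [hy] at h1
      obtain ⟨g, hgle, hgw⟩ := hW'.exists_basicOpen_le (V := W) ⟨w, hwW⟩ hwW'
      have h1 : Pp ∈ hW'.fromSpec ⁻¹ᵁ G.left.basicOpen g := hgw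
      rw [hW'.fromSpec_preimage_basicOpen] at h1
      exact h1 (hIP (Ideal.subset_span hgle))
    refine ⟨t, ht, fun w hw => ?_⟩
    let Pw := hW'.primeIdealOf ⟨w, hw.1⟩
    have hPw : hW'.fromSpec Pw = w := hW'.fromSpec_primeIdealOf ⟨w, hw.1⟩
    have h1 : w ∈ G.left.basicOpen (cst G.hom W' t * bW) := by
      rw [← cst_res G.hom (le_top : W' ≤ ⊤) t, ← map_mul, Scheme.basicOpen_res]
      exact hw
    have h2 : Pw ∈ hW'.fromSpec ⁻¹ᵁ G.left.basicOpen (cst G.hom W' t * bW) := by
      show hW'.fromSpec Pw ∈ G.left.basicOpen (cst G.hom W' t * bW); rw [hPw]; exact h1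
    rw [hW'.fromSpec_preimage_basicOpen] at h2
    obtain ⟨g, hgS, hgP⟩ : ∃ g ∈ S, g ∉ Pw.asIdeal := by
      by_contra hn
      push Not at hn
      exact h2 (Pw.isPrime.radical_le_iff.2 (Ideal.span_le.2 hn) hmem)
    refine hgS ?_
    rw [← hPw]
    show Pw ∈ hW'.fromSpec ⁻¹ᵁ G.left.basicOpen g
    rw [hW'.fromSpec_preimage_basicOpen]
    exact hgP
  haveI : CompactSpace G.left := QuasiCompact.compactSpace_of_compactSpace G.hom
  obtain ⟨F, hF⟩ := isCompact_univ.elim_finite_subcover (fun W' : G.left.affineOpens => ((W' : G.left.Opens) : Set G.left))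
    (fun W' => W'.1.2) (fun w _ => by
      obtain ⟨_, ⟨W', hW', rfl⟩, hw, -⟩ := G.left.isBasis_affineOpens.exists_subset_of_mem_open (Set.mem_univ w) isOpen_univ
      exact Set.mem_iUnion.2 ⟨⟨W', hW'⟩, hw⟩)
  choose t ht hle using fun W' : G.left.affineOpens => key W'.1 W'.2
  let T := ∏ W' ∈ F, t W'
  have hT : T ∈ q.primeCompl := prod_mem fun W' _ => ht W'
  have hle' : G.left.basicOpen (cst G.hom ⊤ T * b) ≤ W := by
    intro w hw
    obtain ⟨W', hW', hwW'⟩ := Set.mem_iUnion₂.1 (hF (Set.mem_univ w))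
    refine hle W' ⟨hwW', ?_⟩
    rw [Scheme.basicOpen_mul] at hw ⊢
    refine ⟨?_, hw.2⟩
    have h1 := hw.1
    rw [show cst G.hom ⊤ T = cst G.hom ⊤ (t W') * cst G.hom ⊤ (∏ x ∈ F.erase W', t x) by
      rw [← map_mul, Finset.mul_prod_erase F t hW'], Scheme.basicOpen_mul] at h1
    exact h1.1
  refine ⟨cst G.hom ⊤ T * b, fun hm => ?_, ?_⟩
  · have h1 : pr.appTop.hom (cst G.hom ⊤ T * b) ∈ M' := Ideal.mem_map_of_mem _ hm
    rw [hzM, map_mul, Scheme.basicOpen_mul, Scheme.basicOpen_of_isUnit _ (hu T hT), top_inf_eq] at h1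
    exact h1 hbz
  · have h1 := hW.basicOpen ((G.left.presheaf.map (homOfLE (le_top : W ≤ ⊤)).op).hom (cst G.hom ⊤ T * b))
    rw [Scheme.basicOpen_res, inf_eq_right.2 hle'] at h1
    exact h1

include hf haff in
/-- **the group is affine** -/
theorem isAffine_of_affine_fibres : IsAffine G.left := by
  refine isAffine_of_isAffineOpen_basicOpen {b : Γ(G.left, ⊤) | IsAffineOpen (G.left.basicOpen b)} ?_ (fun b hb => hb)
  by_contra h
  obtain ⟨M, hM, hle⟩ := Ideal.exists_le_maximal _ h
  obtain ⟨b, hb, hb'⟩ := exists_affine_notMem hf haff M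
  exact hb (hle (Ideal.subset_span hb'))

end Groth.L08.AffVal
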