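import Groth.Agent.L25.HopfFlat
import Mathlib.RingTheory.Jacobson.Ring
import Mathlib.LinearAlgebra.TensorProduct.Basis
import Mathlib.FieldTheory.IsAlgClosed.Basic

/-!
# Translation-stable subalgebras with a common open piece are everything

A subalgebra of a reduced finitely generated Hopf algebra over an algebraically closed field, stable under
translations and the antipode, that contains all functions after inverting one of its elements nonzero at the
unit, is everything.
-/

set_option autoImplicit false
set_option linter.style.haveILetI false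

universe u

open TensorProduct WithConv
open Groth.L25.HopfFlat (rt lt' rt_rt rt_one)

noncomputable section

namespace Groth.L08.AffVal

variable {k : Type u} [Field k] [IsAlgClosed k] {A : Type u} [CommRing A] [HopfAlgebra k A]
  [Algebra.FiniteType k A] [IsReduced A]

/-- functions vanishing at all rational points vanish -/
theorem eq_zero_of_points {a : A} (h : ∀ χ : A →ₐ[k] k, χ a = 0) : a = 0 := by
  haveI : IsJacobsonRing A := isJacobsonRing_of_finiteType (A := k) (B := A)
  have hrad : a ∈ (⊥ : Ideal A).jacobson := by
    rw [Ideal.jacobson, Ideal.mem_sInf]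
    rintro m ⟨-, hm⟩
    letI := Ideal.Quotient.field m
    haveI : Algebra.FiniteType k (A ⧸ m) :=
      Algebra.FiniteType.of_surjective (Ideal.Quotient.mkₐ k m) Ideal.Quotient.mk_surjective
    haveI : Module.Finite k (A ⧸ m) := finite_of_finite_type_of_isJacobsonRing k (A ⧸ m)
    haveI : Algebra.IsIntegral k (A ⧸ m) := Algebra.IsIntegral.of_finite k _
    let e : k ≃ₐ[k] A ⧸ m :=
      AlgEquiv.ofBijective (Algebra.ofId k _) IsAlgClosed.algebraMap_bijective_of_isIntegral
    rw [← Ideal.Quotient.eq_zero_iff_mem]
    have h1 := congrArg e (h (e.symm.toAlgHom.comp (Ideal.Quotient.mkₐ k m)))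
    rw [map_zero] at h1
    simpa using h1
  have hr : (⊥ : Ideal A).IsRadical := fun x hx => by
    obtain ⟨n, hn⟩ := hx
    exact (Submodule.mem_bot A).2 (IsReduced.eq_zero x ⟨n, by simpa using hn⟩)
  rw [IsJacobsonRing.out' _ hr] at hrad
  simpa using hrad

omit [IsAlgClosed k] [Algebra.FiniteType k A] [IsReduced A] in
theorem rt_eq (g : WithConv (A →ₐ[k] k)) (a : A) :
    rt g a = TensorProduct.rid k A (g.ofConv.toLinearMap.lTensor A (Coalgebra.comul a)) := by
  have h : ∀ t : A ⊗[k] A, (Algebra.TensorProduct.lift (AlgHom.id k A) ((Algebra.ofId k A).comp g.ofConv)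
      (fun _ _ => Commute.all _ _)) t = TensorProduct.rid k A (g.ofConv.toLinearMap.lTensor A t) := by
    intro t
    induction t using TensorProduct.induction_on with
    | zero => simp
    | add x y hx hy => simp only [map_add, hx, hy]
    | tmul x y =>
      simp [Algebra.smul_def, mul_comm]
  rw [← h]
  simp only [rt, Groth.L25.HopfFlat.const, AlgHom.convMul_def]
  generalize hd : (Coalgebra.comul a : A ⊗[k] A) = d
  simp only [WithConv.ofConv_toConv, AlgHom.comp_apply, Bialgebra.comulAlgHom_apply, hd]
  clear hd
  induction d using TensorProduct.induction_on with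
  | zero => simp
  | add x y hx hy => simp only [map_add, hx, hy]
  | tmul x y => simp

omit [IsAlgClosed k] [Algebra.FiniteType k A] [IsReduced A] in
theorem lt'_eq (g : WithConv (A →ₐ[k] k)) (a : A) :
    lt' g a = TensorProduct.lid k A (g.ofConv.toLinearMap.rTensor A (Coalgebra.comul a)) := by
  have h : ∀ t : A ⊗[k] A, (Algebra.TensorProduct.lift ((Algebra.ofId k A).comp g.ofConv) (AlgHom.id k A)
      (fun _ _ => Commute.all _ _)) t = TensorProduct.lid k A (g.ofConv.toLinearMap.rTensor A t) := by
    intro t
    induction t using TensorProduct.induction_on with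
    | zero => simp
    | add x y hx hy => simp only [map_add, hx, hy]
    | tmul x y =>
      simp [Algebra.smul_def]
  rw [← h]
  simp only [lt', Groth.L25.HopfFlat.const, AlgHom.convMul_def]
  generalize hd : (Coalgebra.comul a : A ⊗[k] A) = d
  simp only [WithConv.ofConv_toConv, AlgHom.comp_apply, Bialgebra.comulAlgHom_apply, hd]
  clear hd
  induction d using TensorProduct.induction_on with
  | zero => simp
  | add x y hx hy => simp only [map_add, hx, hy]
  | tmul x y => simp

/-- a tensor all whose contractions by points lie in a subspace lies in the tensor product with it -/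
theorem mem_range_rTensor (W : Submodule k A) (t : A ⊗[k] A)
    (h : ∀ χ : A →ₐ[k] k, TensorProduct.rid k A (χ.toLinearMap.lTensor A t) ∈ W) :
    t ∈ LinearMap.range (W.subtype.rTensor A) := by
  have hex : Function.Exact (W.subtype.rTensor A) (W.mkQ.rTensor A) :=
    rTensor_exact A (LinearMap.exact_subtype_mkQ W) W.mkQ_surjective
  refine (hex t).1 ?_
  let b := Module.Free.chooseBasis k (A ⧸ W)
  apply (TensorProduct.equivFinsuppOfBasisLeft b (N := A)).injective
  rw [map_zero]
  refine Finsupp.ext fun i => eq_zero_of_points (k := k) fun χ => ?_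
  have key : ∀ s : A ⊗[k] A, χ (TensorProduct.equivFinsuppOfBasisLeft b (W.mkQ.rTensor A s) i) =
      b.repr (W.mkQ (TensorProduct.rid k A (χ.toLinearMap.lTensor A s))) i := by
    intro s
    induction s using TensorProduct.induction_on with
    | zero => simp
    | add x y hx hy => simp only [map_add, Finsupp.add_apply, hx, hy]
    | tmul x y =>
      simp [mul_comm]
  rw [key, (Submodule.Quotient.mk_eq_zero W).2 (h χ) |> fun e => (show W.mkQ _ = 0 from e), map_zero,
    Finsupp.zero_apply]

/-- a tensor all whose left contractions by points lie in a subspace lies in the tensor product with it -/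
theorem mem_range_lTensor (W : Submodule k A) (t : A ⊗[k] A)
    (h : ∀ χ : A →ₐ[k] k, TensorProduct.lid k A (χ.toLinearMap.rTensor A t) ∈ W) :
    t ∈ LinearMap.range (W.subtype.lTensor A) := by
  obtain ⟨w, hw⟩ := mem_range_rTensor W (TensorProduct.comm k A A t) fun χ => by
    refine (Eq.subst (motive := (· ∈ W)) ?_ (h χ))
    clear h
    induction t using TensorProduct.induction_on with
    | zero => simp
    | add x y hx hy => simp only [map_add, hx, hy]
    | tmul x y => simp
  refine ⟨TensorProduct.comm k W A w, ?_⟩
  have e := congrArg (TensorProduct.comm k A A) hw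
  rw [show ∀ z, TensorProduct.comm k A A (TensorProduct.comm k A A z) = z from fun z => by
    induction z using TensorProduct.induction_on with
    | zero => simp
    | add x y hx hy => simp only [map_add, hx, hy]
    | tmul x y => simp] at e
  refine Eq.trans ?_ e
  clear hw e
  induction w using TensorProduct.induction_on with
  | zero => simp
  | add x y hx hy => simp only [map_add, hx, hy]
  | tmul x y => simp

/-- **a stable subalgebra with a common open piece at the unit is everything** -/
theorem eq_top_of_stable (C : Subalgebra k A) (hr : ∀ g : WithConv (A →ₐ[k] k), ∀ c ∈ C, rt g c ∈ C)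
    (hl : ∀ g : WithConv (A →ₐ[k] k), ∀ c ∈ C, lt' g c ∈ C)
    (hS : ∀ c ∈ C, HopfAlgebra.antipode k c ∈ C) {f : A} (hf : f ∈ C) (hε : Coalgebra.counit (R := k) f = 1)
    (hloc : ∀ a, ∃ n : ℕ, f ^ n * a ∈ C) : C = ⊤ := by
  classical
  refine eq_top_iff.2 fun b _ => ?_
  let I : Submodule k A :=
    { carrier := {x | x ∈ C ∧ ∀ g : WithConv (A →ₐ[k] k), x * rt g b ∈ C}
      add_mem' := fun hx hy => ⟨add_mem hx.1 hy.1, fun g => by rw [add_mul]; exact add_mem (hx.2 g) (hy.2 g)⟩
      zero_mem' := ⟨zero_mem _, fun g => by rw [zero_mul]; exact zero_mem _⟩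
      smul_mem' := fun r x hx => ⟨C.smul_mem hx.1 r, fun g => by rw [smul_mul_assoc]; exact C.smul_mem (hx.2 g) r⟩ }
  have hIC : ∀ x ∈ I, ∀ c ∈ C, x * c ∈ I := fun x hx c hc =>
    ⟨mul_mem hx.1 hc, fun g => by rw [mul_right_comm]; exact mul_mem (hx.2 g) hc⟩
  have hIr : ∀ h : WithConv (A →ₐ[k] k), ∀ x ∈ I, rt h x ∈ I := fun h x hx => by
    refine ⟨hr h x hx.1, fun g => ?_⟩
    have e : rt h (rt (h⁻¹ * g) b) = rt g b := by
      rw [← AlgHom.comp_apply, rt_rt, mul_inv_cancel_left]
    rw [← e, ← map_mul]
    exact hr h _ (hx.2 _)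
  obtain ⟨s, hs⟩ := TensorProduct.exists_finset (R := k) (Coalgebra.comul (R := k) b)
  choose n hn using hloc
  let N := s.sup fun p => n p.1
  have hN : f ^ N ∈ I := by
    refine ⟨pow_mem hf N, fun g => ?_⟩
    rw [rt_eq, hs, map_sum, map_sum, Finset.mul_sum]
    refine sum_mem fun p hp => ?_
    rw [LinearMap.lTensor_tmul, TensorProduct.rid_tmul, mul_smul_comm]
    refine C.smul_mem ?_ _
    have hle : n p.1 ≤ N := Finset.le_sup (f := fun p => n p.1) hp
    rw [show N = (N - n p.1) + n p.1 by omega, pow_add, mul_assoc]
    exact mul_mem (pow_mem hf _) (hn p.1)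
  let c := f ^ N
  obtain ⟨w, hw⟩ := mem_range_rTensor I (Coalgebra.comul c) fun χ => by
    rw [← rt_eq (toConv χ) c]
    exact hIr _ c hN
  obtain ⟨w', hw'⟩ := mem_range_lTensor (Subalgebra.toSubmodule C) (Coalgebra.comul c) fun χ => by
    rw [← lt'_eq (toConv χ) c]
    exact hl _ c hN.1
  obtain ⟨P, hP⟩ := (Subalgebra.toSubmodule C).subtype.exists_leftInverse_of_injective
    (Submodule.ker_subtype _)
  let w'' := P.lTensor I w
  have hsplit : Coalgebra.comul c = TensorProduct.map I.subtype (Subalgebra.toSubmodule C).subtype w'' := by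
    have e1 : ((Subalgebra.toSubmodule C).subtype.comp P).lTensor A (Coalgebra.comul c) = Coalgebra.comul c := by
      rw [← hw', ← LinearMap.comp_apply, ← LinearMap.lTensor_comp, LinearMap.comp_assoc, hP, LinearMap.comp_id]
    conv_lhs => rw [← e1, ← hw]
    clear hw
    simp only [w'']
    induction w using TensorProduct.induction_on with
    | zero => simp
    | add x y hx hy => simp only [map_add, hx, hy]
    | tmul x y => simp
  have hone : (1 : A) ∈ I := by
    have h1 := HopfAlgebra.mul_antipode_lTensor_comul_apply (R := k) c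
    rw [show Coalgebra.counit (R := k) c = 1 by
      show Bialgebra.counitAlgHom k A (f ^ N) = 1
      rw [map_pow, show Bialgebra.counitAlgHom k A f = 1 from hε, one_pow], map_one, hsplit] at h1
    rw [← h1]
    clear hsplit h1
    induction w'' using TensorProduct.induction_on with
    | zero => simp
    | add x y hx hy => simp only [map_add]; exact add_mem hx hy
    | tmul x y =>
      simp only [TensorProduct.map_tmul, Submodule.subtype_apply, LinearMap.lTensor_tmul, LinearMap.mul'_apply]
      exact hIC _ x.2 _ (hS _ y.2)
  simpa [rt_one] using hone.2 1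

end Groth.L08.AffVal
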