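import Groth.Agent.L08.AffVal.Translate
import Groth.Agent.L08.AffVal.BasicAffine
import Groth.Agent.L08.Borel.Points
import Groth.Agent.L08.MonoRed.Unique
import Groth.Agent.L08.MonoRed.Setup
import Groth.Agent.L05.Hensel.SecLift
import Groth.Agent.L27.NormalSepClosed.Algebra
import Groth.Agent.L02.SchDom.GeomFibre

/-!
# Groups over valuation rings near the closed fibre

Over a valuation ring with algebraically closed fraction field, the functions on a smooth separated group with
irreducible affine fibres surject onto the functions of the closed fibre, and every point of the closed fibre has an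
affine nonvanishing locus of a global function around it.
-/

set_option autoImplicit false
set_option linter.unusedSectionVars false
set_option linter.style.haveILetI false
set_option backward.isDefEq.respectTransparency.types false
set_option maxHeartbeats 1000000

universe u

open CategoryTheory CategoryTheory.Limits MonoidalCategory CartesianMonoidalCategory MonObj GrpObj AlgebraicGeometry
open Groth.L08.MonoRed (bcPt bcPt_left)
open Groth.L08.Borel (ptOf pt_ext exists_pt_mem)
open Groth.L02.SchDom (IrrFib)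

noncomputable section

namespace Groth.L08.AffVal

variable {V : Type u} [CommRing V] [IsDomain V] [ValuationRing V] [IsAlgClosed (FractionRing V)]
  {G : Over (Spec (CommRingCat.of V))} [GrpObj G] [Smooth G.hom] [QuasiCompact G.hom] [IsSeparated G.hom]
  (hf : IrrFib G.hom)
  [IsAffine (pullback G.hom (Spec.map (CommRingCat.ofHom (algebraMap V (FractionRing V)))))]
  [IsAffine (pullback G.hom (Spec.map (CommRingCat.ofHom (IsLocalRing.residue V))))]

/-- the inclusion of the closed point -/
abbrev clPt (V : Type u) [CommRing V] [IsLocalRing V] :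
    Spec (CommRingCat.of (IsLocalRing.ResidueField V)) ⟶ Spec (CommRingCat.of V) :=
  Spec.map (CommRingCat.ofHom (IsLocalRing.residue V))

instance isClosedImmersion_clPt (V : Type u) [CommRing V] [IsLocalRing V] : IsClosedImmersion (clPt V) :=
  IsClosedImmersion.spec_of_surjective _ IsLocalRing.residue_surjective

theorem clPt_apply (V : Type u) [CommRing V] [IsLocalRing V] (p : Spec (CommRingCat.of (IsLocalRing.ResidueField V))) :
    clPt V p = IsLocalRing.closedPoint V := by
  rw [Subsingleton.elim (α := PrimeSpectrum (IsLocalRing.ResidueField V)) p (IsLocalRing.closedPoint _)]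
  refine PrimeSpectrum.ext ?_
  show Ideal.comap (IsLocalRing.residue V) (IsLocalRing.maximalIdeal (IsLocalRing.ResidueField V)) =
    IsLocalRing.maximalIdeal V
  rw [IsLocalRing.maximalIdeal_eq_bot, ← RingHom.ker_eq_comap_bot, IsLocalRing.ker_residue]

include hf in
omit [IsDomain V] [ValuationRing V] [IsAlgClosed (FractionRing V)] in
theorem hirr_of_irrFib (q : PrimeSpectrum V) : IsPreirreducible (G.hom.base ⁻¹' {q}) := by
  rintro u v hu hv ⟨a, ha, hau⟩ ⟨b, hb, hbv⟩
  obtain ⟨x, hxu, hxv, hx⟩ := hf.exists_mem_inter (U := ⟨u, hu⟩) (V := ⟨v, hv⟩) ⟨a, hau, ha⟩ ⟨b, hbv, hb⟩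
  exact ⟨x, hx, hxu, hxv⟩

/-- rational points of the closed fibre extend to sections -/
theorem exists_lift_point (g : 𝟙_ (Over (Spec (CommRingCat.of (IsLocalRing.ResidueField V)))) ⟶ Red.bc (clPt V) G) :
    ∃ σ : 𝟙_ (Over (Spec (CommRingCat.of V))) ⟶ G, bcPt (clPt V) σ = g := by
  haveI : IsSepClosed (FractionRing V) := inferInstance
  haveI : HenselianLocalRing V := Groth.L27.NormalSepClosed.henselianLocalRing (FractionRing V)
  have hw : g.left ≫ pullback.snd G.hom (clPt V) = 𝟙 _ := Over.w g
  obtain ⟨u, hu, hu₀⟩ := Groth.L05.SecLift.exists_section G.hom (g.left ≫ pullback.fst G.hom (clPt V))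
    (by rw [Category.assoc, pullback.condition, reassoc_of% hw])
  refine ⟨Over.homMk u hu, Over.OverMorphism.ext (pullback.hom_ext ?_ ((Over.w _).trans hw.symm))⟩
  rw [bcPt_left]
  exact hu₀

/-- translations are isomorphisms -/
theorem isIso_rTr (σ : 𝟙_ (Over (Spec (CommRingCat.of V))) ⟶ G) : IsIso (rTr σ).left := by
  haveI : IsIso (rTr σ) := ⟨rTr σ⁻¹, by rw [rTr_rTr, mul_inv_cancel, rTr_one],
    by rw [rTr_rTr, inv_mul_cancel, rTr_one]⟩
  exact inferInstanceAs (IsIso ((Over.forget _).map (rTr σ)))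

include hf in
/-- **every point of the closed fibre has an affine nonvanishing locus around it** -/
theorem exists_affine_of_closed {z : G.left} (hz : G.hom z = IsLocalRing.closedPoint V) :
    ∃ a : Γ(G.left, ⊤), z ∈ G.left.basicOpen a ∧ IsAffineOpen (G.left.basicOpen a) := by
  haveI : IsAlgClosed (IsLocalRing.ResidueField V) :=
    Groth.L08.MonoRed.isAlgClosed_residue (V := V) (K := FractionRing V)
  haveI : Nonempty G.left := ⟨z⟩
  haveI : AlgebraicGeometry.IsIntegral G.left := isIntegral G.hom (hirr_of_irrFib hf)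
  obtain ⟨a, x', ha, hx'a, hx'⟩ := exists_affine_basicOpen G.hom (hirr_of_irrFib hf) hz
  let Gk := Red.bc (clPt V) G
  let pr : Gk.left ⟶ G.left := pullback.fst G.hom (clPt V)
  haveI : LocallyOfFiniteType Gk.hom := inferInstanceAs (LocallyOfFiniteType (pullback.snd G.hom (clPt V)))
  haveI : JacobsonSpace Gk.left := LocallyOfFiniteType.jacobsonSpace Gk.hom
  -- a rational point in the affine open
  obtain ⟨x₁, hx₁, -⟩ := Scheme.Pullback.exists_preimage_pullback (f := G.hom) (g := clPt V) x'
    (IsLocalRing.closedPoint _) (hx'.trans (clPt_apply V _).symm)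
  obtain ⟨h, hh⟩ := exists_pt_mem (X := Gk) (O := pr ⁻¹' (G.left.basicOpen a : Set G.left))
    ((G.left.basicOpen a).2.preimage pr.continuous).isLocallyClosed
    ⟨x₁, show pr x₁ ∈ G.left.basicOpen a from hx₁.symm ▸ hx'a⟩
  -- a rational point that the given point generalises
  obtain ⟨z₁, hz₁, -⟩ := Scheme.Pullback.exists_preimage_pullback (f := G.hom) (g := clPt V) z
    (IsLocalRing.closedPoint _) (hz.trans (clPt_apply V _).symm)
  obtain ⟨g, hg⟩ := exists_pt_mem (X := Gk) (O := closure {z₁}) isClosed_closure.isLocallyClosed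
    ⟨z₁, subset_closure rfl⟩
  obtain ⟨σ, hσ⟩ := exists_lift_point (g⁻¹ * h)
  haveI := isIso_rTr σ
  refine ⟨(rTr σ).left.appTop.hom a, ?_, ?_⟩
  · have h1 : pr (ptOf g) ∈ (rTr σ).left ⁻¹ᵁ G.left.basicOpen a := by
      show (rTr σ).left (pr (ptOf g)) ∈ G.left.basicOpen a
      have e : ((Over.pullback (clPt V)).map (rTr σ)).left ≫ pr = pr ≫ (rTr σ).left := pullback.lift_fst _ _ _
      rw [← Scheme.Hom.comp_apply, ← e, Scheme.Hom.comp_apply, map_rTr, hσ]
      have e2 : g ≫ rTr (g⁻¹ * h) = h := by rw [point_rTr, mul_inv_cancel_left]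
      have e3 : (rTr (g⁻¹ * h)).left (ptOf g) = ptOf h := congrArg (fun m => m.left (IsLocalRing.closedPoint _)) e2
      show pr ((rTr (g⁻¹ * h)).left (ptOf g)) ∈ G.left.basicOpen a
      rw [e3]
      exact hh
    rw [Scheme.preimage_basicOpen] at h1
    have hs : z₁ ⤳ ptOf g := (specializes_iff_mem_closure).2 hg
    rw [← hz₁]
    exact (hs.map pr.continuous).mem_open (G.left.basicOpen _).2 h1
  · have h1 := ha.preimage_of_isIso (rTr σ).left
    rw [Scheme.preimage_basicOpen] at h1
    exact h1

include hf in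
/-- **functions on the closed fibre extend** -/
theorem surjective_res : Function.Surjective (pullback.fst G.hom (clPt V)).appTop.hom := by
  classical
  haveI : IsAlgClosed (IsLocalRing.ResidueField V) :=
    Groth.L08.MonoRed.isAlgClosed_residue (V := V) (K := FractionRing V)
  let jk := clPt V
  let Gk := Red.bc jk G
  let pr : Gk.left ⟶ G.left := pullback.fst G.hom jk
  haveI : IsClosedImmersion pr := inferInstanceAs (IsClosedImmersion (pullback.fst G.hom jk))
  haveI : IsAffine Gk.left := ‹IsAffine (pullback G.hom (Spec.map (CommRingCat.ofHom (IsLocalRing.residue V))))›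
  haveI : Smooth Gk.hom := inferInstanceAs (Smooth (pullback.snd G.hom jk))
  haveI : IrreducibleSpace Gk.left := hf (IsLocalRing.ResidueField V) jk
  haveI : ConnectedSpace Gk.left := inferInstance
  let C : Subring Γ(Gk.left, ⊤) := pr.appTop.hom.range
  have hstab : ∀ R : G ⟶ G, ∀ c ∈ C, ((Over.pullback jk).map R).left.appTop.hom c ∈ C := by
    rintro R _ ⟨a, rfl⟩
    exact ⟨_, (fst_appTop_comp jk R a).symm⟩
  have hι : Function.Surjective jk.appTop.hom :=
    (IsClosedImmersion.isAffine_surjective_of_isAffine jk).2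
  let e₀ : Gk.left := ptOf (1 : 𝟙_ (Over (Spec (CommRingCat.of (IsLocalRing.ResidueField V)))) ⟶ Gk)
  have he₀ : G.hom (pr e₀) = IsLocalRing.closedPoint V := by
    rw [← Scheme.Hom.comp_apply, show pr ≫ G.hom = Gk.hom ≫ jk from pullback.condition, Scheme.Hom.comp_apply]
    exact clPt_apply V _
  obtain ⟨a, hea, ha⟩ := exists_affine_of_closed hf he₀
  have htop : C = ⊤ := by
    refine eq_top_of_stable_functions (G := Gk) C (fun r => ?_) (fun g => ?_) (fun g => ?_) ?_
      (f := pr.appTop.hom a) ⟨a, rfl⟩ ?_ fun b => ?_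
    · obtain ⟨v, rfl⟩ := hι r
      refine ⟨G.hom.appTop.hom v, ?_⟩
      exact congrArg (fun m => m.appTop.hom v) (pullback.condition (f := G.hom) (g := jk))
    · obtain ⟨σ, rfl⟩ := exists_lift_point g
      rw [← map_rTr]
      exact hstab _
    · obtain ⟨σ, rfl⟩ := exists_lift_point g
      rw [← map_lTr]
      exact hstab _
    · rw [← map_invTr]
      exact hstab _
    · rw [← Scheme.preimage_basicOpen_top]
      exact hea
    · haveI : CompactSpace G.left := QuasiCompact.compactSpace_of_compactSpace G.hom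
      haveI : QuasiSeparatedSpace G.left := quasiSeparatedSpace_of_quasiSeparated G.hom
      let U := G.left.basicOpen a
      obtain ⟨w, hw⟩ := pr.app_surjective U ha
        ((Gk.left.presheaf.map (homOfLE (le_top : pr ⁻¹ᵁ U ≤ ⊤)).op).hom b)
      letI : Algebra Γ(G.left, ⊤) Γ(G.left, U) := (G.left.presheaf.map (homOfLE (le_top : U ≤ ⊤)).op).hom.toAlgebra
      haveI : IsLocalization.Away a Γ(G.left, U) :=
        isLocalization_basicOpen_of_qcqs (U := ⊤) isCompact_univ isQuasiSeparated_univ a
      obtain ⟨c, ⟨_, n, rfl⟩, hcw⟩ := IsLocalization.exists_mk'_eq (Submonoid.powers a) w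
      have hspec : w * (G.left.presheaf.map (homOfLE (le_top : U ≤ ⊤)).op).hom (a ^ n) =
          (G.left.presheaf.map (homOfLE (le_top : U ≤ ⊤)).op).hom c := by
        rw [← hcw]
        exact IsLocalization.mk'_spec Γ(G.left, U) c (⟨_, n, rfl⟩ : Submonoid.powers a)
      have hnat : ∀ s : Γ(G.left, ⊤), (pr.app U).hom ((G.left.presheaf.map (homOfLE (le_top : U ≤ ⊤)).op).hom s) =
          (Gk.left.presheaf.map (homOfLE (le_top : pr ⁻¹ᵁ U ≤ ⊤)).op).hom (pr.appTop.hom s) := fun s =>
        congrArg (fun m => m.hom s) (pr.naturality (homOfLE (le_top : U ≤ ⊤)).op)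
      have h2 : (Gk.left.presheaf.map (homOfLE (le_top : pr ⁻¹ᵁ U ≤ ⊤)).op).hom
          (pr.appTop.hom a ^ n * b) = (Gk.left.presheaf.map (homOfLE (le_top : pr ⁻¹ᵁ U ≤ ⊤)).op).hom
            (pr.appTop.hom c) := by
        rw [← hnat, ← hspec, map_mul, map_mul, hw, hnat, map_pow, map_pow, map_pow, mul_comm]
      haveI : CompactSpace Gk.left := inferInstance
      have hle : pr ⁻¹ᵁ U = Gk.left.basicOpen (pr.appTop.hom a) := Scheme.preimage_basicOpen_top pr a
      let W := Gk.left.basicOpen (pr.appTop.hom a)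
      have h3 : (Gk.left.presheaf.map (homOfLE (le_top : W ≤ ⊤)).op).hom (pr.appTop.hom a ^ n * b) =
          (Gk.left.presheaf.map (homOfLE (le_top : W ≤ ⊤)).op).hom (pr.appTop.hom c) := by
        have h4 := congrArg (Gk.left.presheaf.map (homOfLE hle.ge).op).hom h2
        rw [← CommRingCat.comp_apply, ← CommRingCat.comp_apply, ← Functor.map_comp] at h4
        exact h4
      letI : Algebra Γ(Gk.left, ⊤) Γ(Gk.left, W) := (Gk.left.presheaf.map (homOfLE (le_top : W ≤ ⊤)).op).hom.toAlgebra
      haveI : IsLocalization.Away (pr.appTop.hom a) Γ(Gk.left, W) := (isAffineOpen_top _).isLocalization_basicOpen _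
      obtain ⟨⟨_, m, rfl⟩, hm⟩ := (IsLocalization.eq_iff_exists (Submonoid.powers (pr.appTop.hom a)) _).1 h3
      refine ⟨m + n, a ^ m * c, ?_⟩
      rw [map_mul, map_pow, pow_add, _root_.mul_assoc]
      exact hm.symm
  exact fun b => (show b ∈ C by rw [htop]; trivial)

include hf in
/-- **primes over the closed point come from the closed fibre** -/
theorem exists_point_of_prime (M : Ideal Γ(G.left, ⊤)) [M.IsPrime]
    (hM : ∀ c ∈ IsLocalRing.maximalIdeal V, cst G.hom ⊤ c ∈ M) :
    ∃ z : G.left, G.hom z = IsLocalRing.closedPoint V ∧ ∀ b, b ∈ M ↔ z ∉ G.left.basicOpen b := by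
  let Gk := Red.bc (clPt V) G
  let pr : Gk.left ⟶ G.left := pullback.fst G.hom (clPt V)
  haveI : IsAffine Gk.left := ‹IsAffine (pullback G.hom (Spec.map (CommRingCat.ofHom (IsLocalRing.residue V))))›
  have hpr : ∀ y : Gk.left, G.hom (pr y) = IsLocalRing.closedPoint V := fun y => by
    rw [← Scheme.Hom.comp_apply, show pr ≫ G.hom = Gk.hom ≫ clPt V from pullback.condition, Scheme.Hom.comp_apply]
    exact clPt_apply V _
  have hker : RingHom.ker pr.appTop.hom ≤ M := by
    intro b hb
    rcases eq_or_ne b 0 with rfl | hb0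
    · exact M.zero_mem
    let y₀ : Gk.left := (1 : 𝟙_ (Over (Spec (CommRingCat.of (IsLocalRing.ResidueField V)))) ⟶ Gk).left
      (IsLocalRing.closedPoint _)
    haveI : Nonempty G.left := ⟨pr y₀⟩
    haveI : AlgebraicGeometry.IsIntegral G.left := isIntegral G.hom (hirr_of_irrFib hf)
    obtain ⟨c, b₁, -, rfl, x', hx', hx'c, -⟩ :=
      exists_content' G.hom (hirr_of_irrFib hf) (U := ⊤) (x := pr y₀) trivial (hpr y₀) b hb0
    refine M.mul_mem_right _ (hM c (fun hu => ?_))
    obtain ⟨y, hy, -⟩ := Scheme.Pullback.exists_preimage_pullback (f := G.hom) (g := clPt V) x'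
      (IsLocalRing.closedPoint _) (hx'c.trans (clPt_apply V _).symm)
    have h1 : y ∈ pr ⁻¹ᵁ G.left.basicOpen (cst G.hom ⊤ c * b₁) := by
      show pr y ∈ G.left.basicOpen _
      rw [hy, Scheme.basicOpen_mul, Scheme.basicOpen_of_isUnit _ (hu.map (cst G.hom ⊤))]
      exact ⟨trivial, hx'⟩
    rw [Scheme.preimage_basicOpen_top, RingHom.mem_ker.1 hb, Scheme.basicOpen_zero] at h1
    exact h1
  have hsurj : Function.Surjective pr.appTop.hom := surjective_res hf
  have hP := Ideal.map_isPrime_of_surjective hsurj hker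
  let y : Gk.left := (isAffineOpen_top Gk.left).fromSpec ⟨M.map pr.appTop.hom, hP⟩
  refine ⟨pr y, hpr y, fun b => ?_⟩
  have h1 : pr y ∈ G.left.basicOpen b ↔ y ∈ Gk.left.basicOpen (pr.appTop.hom b) := by
    rw [← Scheme.preimage_basicOpen_top]
    rfl
  have h2 : y ∈ Gk.left.basicOpen (pr.appTop.hom b) ↔ pr.appTop.hom b ∉ M.map pr.appTop.hom := by
    show (⟨M.map pr.appTop.hom, hP⟩ : PrimeSpectrum Γ(Gk.left, ⊤)) ∈
      (isAffineOpen_top Gk.left).fromSpec ⁻¹ᵁ Gk.left.basicOpen (pr.appTop.hom b) ↔ _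
    rw [(isAffineOpen_top Gk.left).fromSpec_preimage_basicOpen]
    rfl
  rw [h1, h2, not_not]
  refine ⟨Ideal.mem_map_of_mem _, fun h => ?_⟩
  have h3 : b ∈ (M.map pr.appTop.hom).comap pr.appTop.hom := h
  rwa [Ideal.comap_map_of_surjective _ hsurj, sup_eq_left.2] at h3
  exact fun x hx => hker hx

end Groth.L08.AffVal
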