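import Groth.Agent.L08.AffVal.Content
import Groth.Agent.S4989
import Mathlib.AlgebraicGeometry.Morphisms.Smooth
import Mathlib.AlgebraicGeometry.Properties
import Mathlib.RingTheory.RingHom.StandardSmooth
import Mathlib.RingTheory.RingHom.Etale

/-!
# Smooth schemes with irreducible fibres over valuation rings

Divisibility by constants at one point of the closed fibre propagates to the whole scheme, and every function has a
content.
-/

set_option autoImplicit false
set_option linter.unusedSectionVars false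
set_option linter.style.haveILetI false
set_option backward.isDefEq.respectTransparency.types false

universe u

open CategoryTheory AlgebraicGeometry Opposite TopologicalSpace

noncomputable section

namespace Groth.L08.AffVal

variable {V : Type u} [CommRing V] {X : Scheme.{u}} (π : X ⟶ Spec (CommRingCat.of V))

/-- constants as functions -/
def cst (U : X.Opens) : V →+* Γ(X, U) :=
  (π.appLE ⊤ U le_top).hom.comp (Scheme.ΓSpecIso (CommRingCat.of V)).inv.hom

theorem cst_res {U W : X.Opens} (h : W ≤ U) (v : V) :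
    (X.presheaf.map (homOfLE h).op).hom (cst π U v) = cst π W v := by
  show ((π.appLE ⊤ U le_top) ≫ X.presheaf.map (homOfLE h).op).hom _ = _
  rw [Scheme.Hom.appLE_map]
  rfl

/-- the projection of an affine open is given by the constants -/
theorem fromSpec_comp {U : X.Opens} (hU : IsAffineOpen U) :
    hU.fromSpec ≫ π = Spec.map (CommRingCat.ofHom (cst π U)) := by
  rw [← IsAffineOpen.SpecMap_appLE_fromSpec π (isAffineOpen_top _) hU le_top, isAffineOpen_top_fromSpec_eq]
  show Spec.map _ ≫ _ = Spec.map ((Scheme.ΓSpecIso (CommRingCat.of V)).inv ≫ π.appLE ⊤ U le_top)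
  rw [Spec.map_comp]
where
  isAffineOpen_top_fromSpec_eq : (isAffineOpen_top (Spec (CommRingCat.of V))).fromSpec =
      Spec.map (Scheme.ΓSpecIso (CommRingCat.of V)).inv := by
    rw [IsAffineOpen.fromSpec_top, Scheme.isoSpec_Spec_inv]

theorem proj_fromSpec {U : X.Opens} (hU : IsAffineOpen U) (P : PrimeSpectrum Γ(X, U)) :
    π (hU.fromSpec P) = PrimeSpectrum.comap (cst π U) P := by
  rw [← Scheme.Hom.comp_apply, fromSpec_comp π hU]
  rfl

/-- constants divide near a point -/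
def Div (c : V) {U : X.Opens} (b : Γ(X, U)) (z : X) : Prop :=
  ∃ (W : X.Opens) (h : W ≤ U), z ∈ W ∧ cst π W c ∣ (X.presheaf.map (homOfLE h).op).hom b

theorem specializes_fromSpec {U : X.Opens} (hU : IsAffineOpen U) {P Q : PrimeSpectrum Γ(X, U)}
    (h : P.asIdeal ≤ Q.asIdeal) : hU.fromSpec P ⤳ hU.fromSpec Q :=
  ((PrimeSpectrum.le_iff_specializes P Q).1 h).map hU.fromSpec.continuous

variable [Smooth π]

/-- **etale coordinates near a point** -/
theorem exists_chart {U : X.Opens} {y : X} (hy : y ∈ U) :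
    ∃ (W : X.Opens) (_ : IsAffineOpen W) (_ : y ∈ W) (_ : W ≤ U) (n : ℕ)
      (φ : MvPolynomial (Fin n) V →+* Γ(X, W)), φ.Etale ∧ φ.comp MvPolynomial.C = cst π W := by
  obtain ⟨_, ⟨W₀, hW₀, rfl⟩, hyW₀, hW₀U⟩ := X.isBasis_affineOpens.exists_subset_of_mem_open hy U.2
  letI : Algebra V Γ(X, W₀) := (cst π W₀).toAlgebra
  haveI : Algebra.Smooth V Γ(X, W₀) := by
    refine RingHom.smooth_algebraMap.1 ?_
    show (cst π W₀).Smooth
    exact RingHom.Smooth.respectsIso.2 _ (Scheme.ΓSpecIso (CommRingCat.of V)).symm.commRingCatIsoToRingEquiv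
      (π.smooth_appLE (isAffineOpen_top _) hW₀ le_top)
  let Y := hW₀.primeIdealOf ⟨y, hyW₀⟩
  obtain ⟨g, hg, hst⟩ := Algebra.IsSmoothAt.exists_notMem_isStandardSmooth V Y.asIdeal
  obtain ⟨n, φ₀, hφC, hφ₀⟩ := RingHom.IsStandardSmooth.exists_etale_mvPolynomial
    (f := algebraMap V (Localization.Away g)) (RingHom.isStandardSmooth_algebraMap.mpr hst)
  let W := X.basicOpen g
  have hWW₀ : W ≤ W₀ := X.basicOpen_le g
  letI : Algebra Γ(X, W₀) Γ(X, W) := (X.presheaf.map (homOfLE hWW₀).op).hom.toAlgebra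
  haveI : IsLocalization.Away g Γ(X, W) := hW₀.isLocalization_basicOpen g
  let e : Localization.Away g ≃ₐ[Γ(X, W₀)] Γ(X, W) := IsLocalization.algEquiv (Submonoid.powers g) _ _
  refine ⟨W, hW₀.basicOpen g, ?_, hWW₀.trans hW₀U, n, e.toRingEquiv.toRingHom.comp φ₀,
    RingHom.Etale.respectsIso.1 _ e.toRingEquiv hφ₀, ?_⟩
  · have h1 : hW₀.fromSpec Y = y := hW₀.fromSpec_primeIdealOf ⟨y, hyW₀⟩
    rw [← h1]
    show hW₀.fromSpec Y ∈ X.basicOpen g
    rw [← Scheme.Hom.mem_preimage (U := X.basicOpen g) (f := hW₀.fromSpec), hW₀.fromSpec_preimage_basicOpen]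
    exact hg
  · rw [RingHom.comp_assoc, hφC]
    ext v
    show e (algebraMap V (Localization.Away g) v) = cst π W v
    rw [IsScalarTower.algebraMap_apply V Γ(X, W₀) (Localization.Away g), AlgEquiv.commutes]
    exact cst_res π hWW₀ v

variable [IsDomain V] [ValuationRing V]

theorem comap_map_C {B : Type u} [CommRing B] {n : ℕ} {φ : MvPolynomial (Fin n) V →+* B} {γ : V →+* B}
    (hC : φ.comp MvPolynomial.C = γ) {q : Ideal V} {P : Ideal B} (hP : P.comap φ = q.map MvPolynomial.C) :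
    P.comap γ = q := by
  subst hC
  ext v
  rw [← Ideal.comap_comap, hP, Ideal.mem_comap, MvPolynomial.mem_map_C_iff]
  refine ⟨fun h => by simpa using h 0, fun hv m => ?_⟩
  rw [MvPolynomial.coeff_C]
  split_ifs
  · exact hv
  · exact zero_mem _

/-- a generic point below a given point, in coordinates -/
theorem exists_generic_below {B : Type u} [CommRing B] {n : ℕ} (φ : MvPolynomial (Fin n) V →+* B) (hφ : φ.Etale)
    (q : Ideal V) [q.IsPrime] (Y : Ideal B) [Y.IsPrime] (h : q ≤ Y.comap (φ.comp MvPolynomial.C)) :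
    ∃ P : Ideal B, P ≤ Y ∧ P.IsPrime ∧ P.comap φ = q.map MvPolynomial.C := by
  letI := φ.toAlgebra
  haveI : Algebra.Etale (MvPolynomial (Fin n) V) B := RingHom.etale_algebraMap.1 hφ
  haveI := isPrime_map_C (σ := Fin n) q
  haveI : Y.LiesOver (Y.comap φ) := ⟨rfl⟩
  obtain ⟨P, hPY, hP, hPq⟩ := Ideal.exists_ideal_le_liesOver_of_le Y
    (p := q.map MvPolynomial.C) (q := Y.comap φ) (Ideal.map_le_iff_le_comap.2 h)
  exact ⟨P, hPY, hP, hPq.over.symm⟩

variable (hirr : ∀ q : PrimeSpectrum V, IsPreirreducible (π.base ⁻¹' {q}))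

omit [Smooth π] [IsDomain V] [ValuationRing V] in
include hirr in
/-- fibres in affine opens are preirreducible -/
theorem preirreducible_chart {W : X.Opens} (hW : IsAffineOpen W) (q : PrimeSpectrum V) :
    IsPreirreducible (PrimeSpectrum.comap (cst π W) ⁻¹' {q}) := by
  rintro u v hu hv ⟨P, hP, hPu⟩ ⟨Q, hQ, hQv⟩
  have hmap : IsOpenMap hW.fromSpec := hW.fromSpec.isOpenEmbedding.isOpenMap
  obtain ⟨z, hz, ⟨R, hR, rfl⟩, R', hR', heq⟩ := hirr q (hW.fromSpec '' u) (hW.fromSpec '' v) (hmap u hu) (hmap v hv)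
    ⟨hW.fromSpec P, by rw [Set.mem_preimage, proj_fromSpec]; exact hP, P, hPu, rfl⟩
    ⟨hW.fromSpec Q, by rw [Set.mem_preimage, proj_fromSpec]; exact hQ, Q, hQv, rfl⟩
  obtain rfl := hW.fromSpec.isOpenEmbedding.injective heq
  exact ⟨R', by rw [Set.mem_preimage, ← proj_fromSpec π hW]; exact hz, hR, hR'⟩

include hirr in
/-- the generic point of a fibre in coordinates generalises to all points of the fibre in the chart -/
theorem generic_specializes {W : X.Opens} (hW : IsAffineOpen W) {n : ℕ}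
    {φ : MvPolynomial (Fin n) V →+* Γ(X, W)} (hφ : φ.Etale) (hC : φ.comp MvPolynomial.C = cst π W)
    (q : PrimeSpectrum V) (P : PrimeSpectrum Γ(X, W)) (hP : P.asIdeal.comap φ = q.asIdeal.map MvPolynomial.C)
    {z : X} (hz : z ∈ W) (hzq : π z = q) : hW.fromSpec P ⤳ z := by
  letI := φ.toAlgebra
  letI : Algebra V Γ(X, W) := (cst π W).toAlgebra
  haveI : IsScalarTower V (MvPolynomial (Fin n) V) Γ(X, W) := IsScalarTower.of_algebraMap_eq' hC.symm
  haveI : Algebra.Etale (MvPolynomial (Fin n) V) Γ(X, W) := RingHom.etale_algebraMap.1 hφ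
  let Z := hW.primeIdealOf ⟨z, hz⟩
  have hZ : hW.fromSpec Z = z := hW.fromSpec_primeIdealOf ⟨z, hz⟩
  rw [← hZ]
  refine specializes_fromSpec hW (le_of_generic (fun q' => preirreducible_chart π hirr hW q') q.asIdeal P.asIdeal
    Z.asIdeal hP ?_)
  rw [← hzq, ← hZ, proj_fromSpec]
  rfl

include hirr in
/-- **divisibility spreads from an open set meeting the closed fibre** -/
theorem div_of_open {U U₁ : X.Opens} {x : X} (hx : x ∈ U₁) (hxc : π x = IsLocalRing.closedPoint V) (c : V)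
    (b : Γ(X, U)) (hb : ∀ z ∈ U, z ∈ U₁ → Div π c b z) {y : X} (hy : y ∈ U) : Div π c b y := by
  let q : PrimeSpectrum V := π y
  obtain ⟨W, hW, hyW, hWU, n, φ, hφ, hC⟩ := exists_chart π hy
  obtain ⟨W₀, hW₀, hxW₀, hW₀U, n₀, φ₀, hφ₀, hC₀⟩ := exists_chart π hx
  let Y := hW.primeIdealOf ⟨y, hyW⟩
  let X₁ := hW₀.primeIdealOf ⟨x, hxW₀⟩
  have hY : Y.asIdeal.comap (cst π W) = q.asIdeal := by
    have h := proj_fromSpec π hW Y
    rw [show hW.fromSpec Y = y from hW.fromSpec_primeIdealOf ⟨y, hyW⟩] at h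
    exact (congrArg PrimeSpectrum.asIdeal h).symm
  have hX₁ : X₁.asIdeal.comap (cst π W₀) = IsLocalRing.maximalIdeal V := by
    have h := proj_fromSpec π hW₀ X₁
    rw [show hW₀.fromSpec X₁ = x from hW₀.fromSpec_primeIdealOf ⟨x, hxW₀⟩, hxc] at h
    exact (congrArg PrimeSpectrum.asIdeal h).symm
  obtain ⟨P, hPY, hPp, hP⟩ := exists_generic_below φ hφ q.asIdeal Y.asIdeal (by rw [hC, hY])
  obtain ⟨P₀, hP₀X, hP₀p, hP₀⟩ := exists_generic_below φ₀ hφ₀ q.asIdeal X₁.asIdeal (by
    rw [hC₀, hX₁]; exact IsLocalRing.le_maximalIdeal q.isPrime.ne_top)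
  let Pp : PrimeSpectrum Γ(X, W) := ⟨P, hPp⟩
  let P₀p : PrimeSpectrum Γ(X, W₀) := ⟨P₀, hP₀p⟩
  have hπP : π (hW.fromSpec Pp) = q := by
    rw [proj_fromSpec]; exact PrimeSpectrum.ext (comap_map_C hC hP)
  have hπP₀ : π (hW₀.fromSpec P₀p) = q := by
    rw [proj_fromSpec]; exact PrimeSpectrum.ext (comap_map_C hC₀ hP₀)
  have hmem : ∀ {W' : X.Opens} (hW' : IsAffineOpen W') (R : PrimeSpectrum Γ(X, W')), hW'.fromSpec R ∈ W' :=
    fun hW' R => hW'.range_fromSpec.le ⟨R, rfl⟩
  obtain ⟨z, hzq, hzW, hzW₀⟩ := hirr q (W : Set X) (W₀ : Set X) W.2 W₀.2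
    ⟨_, hπP, hmem hW Pp⟩ ⟨_, hπP₀, hmem hW₀ P₀p⟩
  have h₀W : hW₀.fromSpec P₀p ∈ W := (generic_specializes π hirr hW₀ hφ₀ hC₀ q P₀p hP₀ hzW₀ hzq).mem_open W.2 hzW
  have hPP₀ : hW.fromSpec Pp ⤳ hW₀.fromSpec P₀p := generic_specializes π hirr hW hφ hC q Pp hP h₀W hπP₀
  have hP₁ : hW.fromSpec Pp ∈ U₁ := hPP₀.mem_open U₁.2 (hW₀U (hmem hW₀ P₀p))
  obtain ⟨W₁, hW₁, hPW₁, hdvd⟩ := hb _ (hWU (hmem hW Pp)) hP₁
  obtain ⟨t, htle, ht⟩ := hW.exists_basicOpen_le (V := W₁) ⟨_, hPW₁⟩ (hmem hW Pp)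
  letI := φ.toAlgebra
  letI : Algebra V Γ(X, W) := (cst π W).toAlgebra
  haveI : IsScalarTower V (MvPolynomial (Fin n) V) Γ(X, W) := IsScalarTower.of_algebraMap_eq' hC.symm
  haveI : Algebra.Etale (MvPolynomial (Fin n) V) Γ(X, W) := RingHom.etale_algebraMap.1 hφ
  letI : Algebra Γ(X, W) Γ(X, X.basicOpen t) := (X.presheaf.map (homOfLE (X.basicOpen_le t)).op).hom.toAlgebra
  haveI : IsLocalization.Away t Γ(X, X.basicOpen t) := hW.isLocalization_basicOpen t
  have htP : t ∉ P := by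
    have h1 : Pp ∈ hW.fromSpec ⁻¹ᵁ X.basicOpen t := ht
    rw [hW.fromSpec_preimage_basicOpen] at h1
    exact h1
  let bW : Γ(X, W) := (X.presheaf.map (homOfLE hWU).op).hom b
  have hdvd' : algebraMap Γ(X, W) Γ(X, X.basicOpen t) (cst π W c) ∣ algebraMap Γ(X, W) Γ(X, X.basicOpen t) bW := by
    have := map_dvd (X.presheaf.map (homOfLE htle).op).hom hdvd
    rw [cst_res] at this
    show (X.presheaf.map _).hom _ ∣ (X.presheaf.map _).hom ((X.presheaf.map _).hom b)
    rw [cst_res]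
    rw [← CommRingCat.comp_apply, ← X.presheaf.map_comp] at this ⊢
    exact this
  obtain ⟨w, hw⟩ := hdvd'
  obtain ⟨a, ⟨_, N, rfl⟩, rfl⟩ := IsLocalization.exists_mk'_eq (Submonoid.powers t) w
  have h2 : algebraMap Γ(X, W) Γ(X, X.basicOpen t) (bW * t ^ N) = algebraMap _ _ (cst π W c * a) := by
    rw [map_mul, map_mul, hw, mul_assoc, IsLocalization.mk'_spec]
  obtain ⟨⟨_, M, rfl⟩, hM⟩ := (IsLocalization.eq_iff_exists (Submonoid.powers t) _).1 h2
  obtain ⟨t', ht', hdt⟩ := exists_notMem_dvd (fun q' => preirreducible_chart π hirr hW q') q.asIdeal P Y.asIdeal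
    hP hY c bW (t ^ (M + N)) (fun h => htP (hPp.mem_of_pow_mem _ h))
    ⟨t ^ M * a, by
      show _ = cst π W c * _
      rw [pow_add]
      simp only at hM
      linear_combination hM⟩
  refine ⟨X.basicOpen t', (X.basicOpen_le t').trans hWU, ?_, ?_⟩
  · rw [← (show hW.fromSpec Y = y from hW.fromSpec_primeIdealOf ⟨y, hyW⟩)]
    show Y ∈ hW.fromSpec ⁻¹ᵁ X.basicOpen t'
    rw [hW.fromSpec_preimage_basicOpen]
    exact ht'
  · have h3 := map_dvd (X.presheaf.map (homOfLE (X.basicOpen_le t')).op).hom hdt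
    rw [map_mul, show algebraMap V Γ(X, W) c = cst π W c from rfl, cst_res] at h3
    have hu : IsUnit ((X.presheaf.map (homOfLE (X.basicOpen_le t')).op).hom t') :=
      RingedSpace.isUnit_res_basicOpen X.toRingedSpace t'
    rw [hu.dvd_mul_left, ← CommRingCat.comp_apply, ← X.presheaf.map_comp] at h3
    exact h3

include hirr in
/-- **the scheme is integral** -/
theorem isIntegral [IsSeparated π] [Nonempty X] : IsIntegral X := by
  have hnorm : ∀ p : X, _root_.IsReduced (X.presheaf.stalk p) := fun p => by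
    refine ((Groth.Agent.S4989.result π p (by rw [AlgebraicGeometry.Scheme.Hom.smoothLocus_eq_top]; trivial)).1).2 ?_
    let Q : Ideal V := (show PrimeSpectrum V from π p).asIdeal
    let e : Localization.AtPrime Q ≃+* (Spec (CommRingCat.of V)).presheaf.stalk (π p) :=
      (StructureSheaf.stalkIso V (show PrimeSpectrum V from π p)).toRingEquiv
    haveI : IsDomain ((Spec (CommRingCat.of V)).presheaf.stalk (π p)) := e.symm.injective.isDomain
    infer_instance
  haveI := hnorm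
  haveI : IsReduced X := isReduced_of_isReduced_stalk X
  let η₀ : PrimeSpectrum V := ⟨⊥, Ideal.isPrime_bot⟩
  have hgen : ∀ {U : X.Opens} {y : X}, y ∈ U → ∃ z ∈ U, π z = η₀ := fun {U y} hy => by
    obtain ⟨W, hW, hyW, hWU, n, φ, hφ, hC⟩ := exists_chart π hy
    obtain ⟨P, -, hPp, hP⟩ := exists_generic_below φ hφ ⊥ (hW.primeIdealOf ⟨y, hyW⟩).asIdeal bot_le
    refine ⟨hW.fromSpec ⟨P, hPp⟩, hWU (hW.range_fromSpec.le ⟨_, rfl⟩), ?_⟩
    rw [proj_fromSpec]
    exact PrimeSpectrum.ext (comap_map_C hC hP)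
  haveI : PreirreducibleSpace X := ⟨by
    rintro u v hu hv ⟨a, -, ha⟩ ⟨b, -, hb⟩
    obtain ⟨a', ha', haπ⟩ := hgen (U := ⟨u, hu⟩) ha
    obtain ⟨b', hb', hbπ⟩ := hgen (U := ⟨v, hv⟩) hb
    obtain ⟨z, -, hz⟩ := hirr η₀ u v hu hv ⟨a', haπ, ha'⟩ ⟨b', hbπ, hb'⟩
    exact ⟨z, trivial, hz⟩⟩
  haveI : IrreducibleSpace X := { toNonempty := ‹_› }
  exact isIntegral_of_irreducibleSpace_of_isReduced X

/-- nonzero constants are nonzero functions -/
theorem cst_injective [IsIntegral X] {U : X.Opens} (hU : Nonempty U) : Function.Injective (cst π U) := by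
  obtain ⟨⟨y, hy⟩⟩ := hU
  obtain ⟨W, hW, hyW, hWU, n, φ, hφ, hC⟩ := exists_chart π hy
  obtain ⟨P, -, hPp, hP⟩ := exists_generic_below φ hφ ⊥ (hW.primeIdealOf ⟨y, hyW⟩).asIdeal bot_le
  intro a b h
  have h1 : cst π W a = cst π W b := by rw [← cst_res π hWU, h, cst_res π hWU]
  have h2 : P.comap (cst π W) = ⊥ := comap_map_C hC hP
  refine sub_eq_zero.1 ((Submodule.mem_bot V).1 (h2 ▸ (show a - b ∈ P.comap (cst π W) from ?_)))
  rw [Ideal.mem_comap, map_sub, h1, sub_self]
  exact zero_mem _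

include hirr in
/-- **a constant dividing near one point of the closed fibre divides globally** -/
theorem dvd_of_open [IsIntegral X] {U U₁ : X.Opens} {x : X} (hx : x ∈ U₁) (hxc : π x = IsLocalRing.closedPoint V)
    (c : V) (hc : c ≠ 0) (b : Γ(X, U)) (hb : ∀ z ∈ U, z ∈ U₁ → Div π c b z) : cst π U c ∣ b := by
  classical
  choose W hWU hzW hdvd using fun z : U => div_of_open π hirr hx hxc c b hb z.2
  choose q hq using hdvd
  have hcomp : TopCat.Presheaf.IsCompatible X.presheaf W q := by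
    intro i j
    by_cases hne : Nonempty ↥(W i ⊓ W j)
    · haveI := hne
      haveI : IsDomain Γ(X, W i ⊓ W j) := @IsIntegral.component_integral X _ (W i ⊓ W j) hne
      refine mul_left_cancel₀ (a := cst π (W i ⊓ W j) c) (fun h => hc (cst_injective π hne (h.trans (map_zero _).symm))) ?_
      have e1 := congrArg (X.presheaf.map (Opens.infLELeft (W i) (W j)).op).hom (hq i)
      have e2 := congrArg (X.presheaf.map (Opens.infLERight (W i) (W j)).op).hom (hq j)
      rw [map_mul] at e1 e2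
      simp only [← CommRingCat.comp_apply, ← X.presheaf.map_comp] at e1 e2
      rw [show Opens.infLELeft (W i) (W j) = homOfLE inf_le_left from Subsingleton.elim _ _] at e1 ⊢
      rw [show Opens.infLERight (W i) (W j) = homOfLE inf_le_right from Subsingleton.elim _ _] at e2 ⊢
      rw [cst_res] at e1 e2
      exact e1.symm.trans e2
    · haveI : IsEmpty ↥(W i ⊓ W j) := not_nonempty_iff.1 hne
      haveI : Subsingleton Γ(X, W i ⊓ W j) := CommRingCat.subsingleton_of_isTerminal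
        (X.sheaf.isTerminalOfEqEmpty (Opens.ext (Set.isEmpty_coe_sort.1 ‹_›)))
      exact Subsingleton.elim _ _
  obtain ⟨s, hs, -⟩ := TopCat.Sheaf.existsUnique_gluing' X.sheaf W U (fun z => homOfLE (hWU z))
    (fun z hz => Opens.mem_iSup.2 ⟨⟨z, hz⟩, hzW ⟨z, hz⟩⟩) q hcomp
  refine ⟨(show Γ(X, U) from s), ?_⟩
  refine X.sheaf.eq_of_locally_eq' W U (fun z => homOfLE (hWU z))
    (fun z hz => Opens.mem_iSup.2 ⟨⟨z, hz⟩, hzW ⟨z, hz⟩⟩) _ _ fun z => ?_
  show (X.presheaf.map _).hom b = (X.presheaf.map _).hom (cst π U c * (show Γ(X, U) from s))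
  rw [map_mul, cst_res, hq z]
  exact congrArg _ (hs z).symm

variable [IsAlgClosed (FractionRing V)]

include hirr in
/-- **contents**: a nonzero function is a constant times one not vanishing on the whole closed fibre -/
theorem exists_content' [IsIntegral X] {U : X.Opens} {x : X} (hx : x ∈ U) (hxc : π x = IsLocalRing.closedPoint V)
    (a : Γ(X, U)) (ha : a ≠ 0) :
    ∃ (c : V) (a₁ : Γ(X, U)), c ≠ 0 ∧ a = cst π U c * a₁ ∧ ∃ x' ∈ X.basicOpen a₁,
      π x' = IsLocalRing.closedPoint V ∧ x' ⤳ x := by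
  classical
  obtain ⟨W, hW, hxW, hWU, n, φ, hφ, hC⟩ := exists_chart π hx
  let X₁ := hW.primeIdealOf ⟨x, hxW⟩
  obtain ⟨P, hPX, hPp, hP⟩ := exists_generic_below φ hφ (IsLocalRing.maximalIdeal V) X₁.asIdeal (by
    rw [hC]
    have h := proj_fromSpec π hW X₁
    rw [show hW.fromSpec X₁ = x from hW.fromSpec_primeIdealOf ⟨x, hxW⟩, hxc] at h
    exact (congrArg PrimeSpectrum.asIdeal h).le)
  let Pp : PrimeSpectrum Γ(X, W) := ⟨P, hPp⟩
  haveI : Nonempty W := ⟨⟨x, hxW⟩⟩
  letI := φ.toAlgebra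
  letI : Algebra V Γ(X, W) := (cst π W).toAlgebra
  haveI : IsScalarTower V (MvPolynomial (Fin n) V) Γ(X, W) := IsScalarTower.of_algebraMap_eq' hC.symm
  haveI : Algebra.Etale (MvPolynomial (Fin n) V) Γ(X, W) := RingHom.etale_algebraMap.1 hφ
  let aW : Γ(X, W) := (X.presheaf.map (homOfLE hWU).op).hom a
  have haW : aW ≠ 0 := fun h => ha (map_injective_of_isIntegral X (homOfLE hWU) (h.trans (map_zero _).symm))
  have hinj : Function.Injective φ := by
    refine (injective_iff_map_eq_zero φ).2 fun f hf => ?_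
    by_contra h0
    obtain ⟨d, f', hd, rfl, i, hi⟩ := exists_primitive h0
    rw [map_mul, mul_eq_zero, show φ (MvPolynomial.C d) = cst π W d from RingHom.congr_fun hC d] at hf
    rcases hf with hf | hf
    · exact hd (cst_injective π inferInstance (hf.trans (map_zero _).symm))
    · refine notMem_map_C hi (IsLocalRing.maximalIdeal V) ?_
      rw [← hP, Ideal.mem_comap, hf]
      exact zero_mem _
  have hπP : π (hW.fromSpec Pp) = IsLocalRing.closedPoint V := by
    rw [proj_fromSpec]; exact PrimeSpectrum.ext (comap_map_C hC hP)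
  haveI : IsIntegrallyClosed (Localization.AtPrime P) := by
    let p : X := hW.fromSpec Pp
    have hp : p ∈ W := hW.range_fromSpec.le ⟨Pp, rfl⟩
    obtain ⟨-, h2⟩ := Groth.Agent.S4989.result π p (by
      rw [AlgebraicGeometry.Scheme.Hom.smoothLocus_eq_top]; trivial)
    have hy : IsDomain ((Spec (CommRingCat.of V)).presheaf.stalk (π p)) ∧
        IsIntegrallyClosed ((Spec (CommRingCat.of V)).presheaf.stalk (π p)) := by
      let Q : Ideal V := (show PrimeSpectrum V from π p).asIdeal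
      let e : Localization.AtPrime Q ≃+* (Spec (CommRingCat.of V)).presheaf.stalk (π p) :=
        (StructureSheaf.stalkIso V (show PrimeSpectrum V from π p)).toRingEquiv
      haveI : IsIntegrallyClosed (Localization.AtPrime Q) :=
        isIntegrallyClosed_of_isLocalization _ Q.primeCompl Q.primeCompl_le_nonZeroDivisors
      exact ⟨e.symm.injective.isDomain, IsIntegrallyClosed.of_equiv e⟩
    haveI := (h2.2 hy).2
    letI := TopCat.Presheaf.algebra_section_stalk X.presheaf (⟨p, hp⟩ : W)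
    letI : Algebra Γ(X, W) (X.presheaf.stalk p) :=
      TopCat.Presheaf.algebra_section_stalk X.presheaf (⟨p, hp⟩ : W)
    haveI hloc := hW.isLocalization_stalk ⟨p, hp⟩
    have hPe : hW.primeIdealOf ⟨p, hp⟩ = Pp := hW.fromSpec.isOpenEmbedding.injective (hW.fromSpec_primeIdealOf _)
    rw [hPe] at hloc
    exact IsIntegrallyClosed.of_equiv (@IsLocalization.algEquiv Γ(X, W) _ P.primeCompl (X.presheaf.stalk p) _ _ hloc
      (Localization.AtPrime P) _ _ _).toRingEquiv
  obtain ⟨c, b', t, ht, hb', htb⟩ := exists_content hinj P hP aW haW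
  rw [show algebraMap V Γ(X, W) c = cst π W c from rfl] at htb
  have hc : c ≠ 0 := fun h => by
    rw [h, map_zero, zero_mul, mul_eq_zero] at htb
    exact htb.elim (fun h => ht (h ▸ zero_mem _)) haW
  -- the content divides globally
  have hdiv : ∀ z ∈ U, z ∈ X.basicOpen t → Div π c a z := fun z _ hz => by
    refine ⟨X.basicOpen t, (X.basicOpen_le t).trans hWU, hz, ?_⟩
    have hu : IsUnit ((X.presheaf.map (homOfLE (X.basicOpen_le t)).op).hom t) :=
      RingedSpace.isUnit_res_basicOpen X.toRingedSpace t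
    have h1 : (X.presheaf.map (homOfLE ((X.basicOpen_le t).trans hWU)).op).hom a =
        (X.presheaf.map (homOfLE (X.basicOpen_le t)).op).hom aW := by
      rw [← CommRingCat.comp_apply, ← X.presheaf.map_comp]
      rfl
    rw [h1, ← hu.dvd_mul_left, ← map_mul, htb, map_mul, cst_res]
    exact dvd_mul_right _ _
  have htx : hW.fromSpec Pp ∈ X.basicOpen t := by
    show Pp ∈ hW.fromSpec ⁻¹ᵁ X.basicOpen t
    rw [hW.fromSpec_preimage_basicOpen]
    exact ht
  obtain ⟨a₁, ha₁⟩ := dvd_of_open π hirr htx hπP c hc a hdiv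
  refine ⟨c, a₁, hc, ha₁, hW.fromSpec Pp, ?_, hπP, ?_⟩
  rotate_left
  · rw [← (show hW.fromSpec X₁ = x from hW.fromSpec_primeIdealOf ⟨x, hxW⟩)]
    exact specializes_fromSpec hW hPX
  -- the quotient does not vanish at the generic point
  let a₁W : Γ(X, W) := (X.presheaf.map (homOfLE hWU).op).hom a₁
  have h2 : t * a₁W = b' := by
    refine mul_left_cancel₀ (a := cst π W c) (fun h => hc (cst_injective π inferInstance (h.trans (map_zero _).symm))) ?_
    rw [← htb, show aW = cst π W c * a₁W by rw [← cst_res π hWU, ← map_mul, ← ha₁]]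
    ring
  have h3 : hW.fromSpec Pp ∈ X.basicOpen a₁W := by
    show Pp ∈ hW.fromSpec ⁻¹ᵁ X.basicOpen a₁W
    rw [hW.fromSpec_preimage_basicOpen]
    exact fun h => hb' (h2 ▸ Ideal.mul_mem_left _ _ h)
  rw [Scheme.basicOpen_res] at h3
  exact h3.2

end Groth.L08.AffVal
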