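import Groth.Agent.L08.AffVal.Hopf
import Groth.Agent.L20.Unir.HopfData
import Groth.Agent.L06.FGDense.Scheme
import Groth.Agent.L08.MonoRed.Acts

/-!
# Translation-stable function rings on affine groups

Translations by points commute with base change; a translation-stable subring of the functions on an affine group
over an algebraically closed field with a common open piece at the unit is everything.
-/

set_option autoImplicit false
set_option linter.unusedSectionVars false
set_option linter.style.haveILetI false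
set_option backward.isDefEq.respectTransparency.types false

universe u

open CategoryTheory CategoryTheory.Limits MonoidalCategory CartesianMonoidalCategory MonObj GrpObj AlgebraicGeometry
open WithConv
open Groth.L25.Bridge (P)
open Groth.L25.NilAction (toBase ofBase toBase_mul toBase_ofBase toBase_one)
open Groth.L08.Borel (toBase_comp toBase_map' toBase_injective)
open Groth.L06.FGDense (unitIso)
open Groth.L25.HopfFlat (rt lt')

noncomputable section

namespace Groth.L08.AffVal

section General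

variable {C : Type*} [Category C] [CartesianMonoidalCategory C] {G : C} [GrpObj G]

/-- right translation by a point -/
def rTr (g : 𝟙_ C ⟶ G) : G ⟶ G := 𝟙 G * (toUnit G ≫ g)

/-- left translation by a point -/
def lTr (g : 𝟙_ C ⟶ G) : G ⟶ G := (toUnit G ≫ g) * 𝟙 G

/-- inversion -/
def invTr : G ⟶ G := (𝟙 G)⁻¹

theorem comp_rTr {T : C} (x : T ⟶ G) (g : 𝟙_ C ⟶ G) : x ≫ rTr g = x * (toUnit T ≫ g) := by
  rw [rTr, MonObj.comp_mul, Category.comp_id, comp_toUnit_assoc]

theorem comp_lTr {T : C} (x : T ⟶ G) (g : 𝟙_ C ⟶ G) : x ≫ lTr g = (toUnit T ≫ g) * x := by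
  rw [lTr, MonObj.comp_mul, Category.comp_id, comp_toUnit_assoc]

theorem rTr_rTr (g h : 𝟙_ C ⟶ G) : rTr g ≫ rTr h = rTr (g * h) := by
  rw [comp_rTr, rTr, rTr, MonObj.comp_mul, _root_.mul_assoc]

theorem rTr_one : rTr (1 : 𝟙_ C ⟶ G) = 𝟙 G := by
  rw [rTr, MonObj.comp_one, _root_.mul_one]

theorem point_rTr (x g : 𝟙_ C ⟶ G) : x ≫ rTr g = x * g := by
  rw [comp_rTr, show toUnit (𝟙_ C) = 𝟙 _ from toUnit_unique _ _, Category.id_comp]

end General

section BaseChange

variable {S P' : Scheme.{u}} (j : P' ⟶ S) {G : Over S} [GrpObj G]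

theorem toBase_map_inv {Y : Over P'} (a : Y ⟶ Red.bc j G) : toBase j a⁻¹ = (toBase j a)⁻¹ :=
  map_inv (MonoidHom.mk' (toBase j) (toBase_mul (G := G) j) : (Y ⟶ Red.bc j G) →* _) a

theorem map_rTr (σ : 𝟙_ (Over S) ⟶ G) :
    (Over.pullback j).map (rTr σ) = rTr (Groth.L08.MonoRed.bcPt j σ) := by
  refine toBase_injective j _ _ ?_
  rw [← Category.id_comp ((Over.pullback j).map (rTr σ)), toBase_map', rTr, rTr, MonObj.comp_mul, Category.comp_id,
    toBase_mul, toBase_comp, Groth.L08.MonoRed.toBase_bcPt, comp_toUnit_assoc]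
  congr 1

theorem map_lTr (σ : 𝟙_ (Over S) ⟶ G) :
    (Over.pullback j).map (lTr σ) = lTr (Groth.L08.MonoRed.bcPt j σ) := by
  refine toBase_injective j _ _ ?_
  rw [← Category.id_comp ((Over.pullback j).map (lTr σ)), toBase_map', lTr, lTr, MonObj.comp_mul, Category.comp_id,
    toBase_mul, toBase_comp, Groth.L08.MonoRed.toBase_bcPt, comp_toUnit_assoc]
  congr 1

theorem map_invTr : (Over.pullback j).map (invTr (G := G)) = invTr := by
  refine toBase_injective j _ _ ?_
  rw [← Category.id_comp ((Over.pullback j).map (invTr (G := G))), toBase_map']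
  show _ = toBase j ((𝟙 (Red.bc j G))⁻¹)
  rw [invTr, GrpObj.comp_inv, Category.comp_id, toBase_map_inv]

/-- pulling functions back along a translation commutes with base change -/
theorem fst_appTop_comp (R : G ⟶ G) (a : Γ(G.left, ⊤)) :
    ((Over.pullback j).map R).left.appTop.hom ((pullback.fst G.hom j).appTop.hom a) =
      (pullback.fst G.hom j).appTop.hom (R.left.appTop.hom a) := by
  have e : ((Over.pullback j).map R).left ≫ pullback.fst G.hom j = pullback.fst G.hom j ≫ R.left := by
    exact pullback.lift_fst _ _ _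
  have := congrArg (fun m => m.appTop.hom a) e
  simpa [Scheme.Hom.comp_appTop] using this

end BaseChange

section Field

variable {k : Type u} [Field k] {A : Type u} [CommRing A] [HopfAlgebra k A]

theorem mapMulEquiv_id : Spec.mapMulEquiv (toConv (AlgHom.id k A) : WithConv (A →ₐ[k] A)) = 𝟙 (P k A) := by
  ext1
  show Spec.map _ = _
  simp only [AlgHom.id_toRingHom, WithConv.ofConv_toConv]
  exact Spec.map_id _

theorem mapMulEquiv_const (g : WithConv (A →ₐ[k] k)) :
    Spec.mapMulEquiv (Groth.L25.HopfFlat.const g) =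
      toUnit (P k A) ≫ unitIso.inv ≫ Spec.mapMulEquiv g := by
  ext1
  rw [Over.comp_left, Over.comp_left]
  show Spec.map (CommRingCat.ofHom ((Algebra.ofId k A).comp g.ofConv).toRingHom) =
    (P k A).hom ≫ 𝟙 _ ≫ Spec.map (CommRingCat.ofHom g.ofConv.toRingHom)
  rw [Category.id_comp]
  exact Spec.map_comp (CommRingCat.ofHom g.ofConv.toRingHom) (CommRingCat.ofHom (algebraMap k A))

variable {G : Over (Spec (CommRingCat.of k))} [GrpObj G] [IsAffine G.left] [Smooth G.hom] [ConnectedSpace G.left]

/-- **stable subrings with a common open piece at the unit are everything** -/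
theorem eq_top_of_stable_functions [IsAlgClosed k] (C : Subring Γ(G.left, ⊤))
    (hk : ∀ r, G.hom.appTop.hom r ∈ C)
    (hr : ∀ g : 𝟙_ (Over (Spec (CommRingCat.of k))) ⟶ G, ∀ c ∈ C, (rTr g).left.appTop.hom c ∈ C)
    (hl : ∀ g : 𝟙_ (Over (Spec (CommRingCat.of k))) ⟶ G, ∀ c ∈ C, (lTr g).left.appTop.hom c ∈ C)
    (hi : ∀ c ∈ C, (invTr (G := G)).left.appTop.hom c ∈ C) {f : Γ(G.left, ⊤)} (hf : f ∈ C)
    (hunit : (1 : 𝟙_ (Over (Spec (CommRingCat.of k))) ⟶ G).left (IsLocalRing.closedPoint k) ∈ G.left.basicOpen f)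
    (hloc : ∀ a, ∃ n : ℕ, f ^ n * a ∈ C) : C = ⊤ := by
  obtain ⟨A, _, _, e, he, hei, hft, hsm, hconn⟩ := Groth.L20.Unirat.exists_hopfData G
  haveI := he; haveI := hei; haveI := hft; haveI := hsm; haveI := hconn
  haveI : IsDomain A := Groth.L24.TorusField.isDomain_of_smooth_connected (k := k) (A := A)
  haveI : IsIso e.hom.left := inferInstanceAs (IsIso ((Over.forget _).map e.hom))
  let eL : G.left ⟶ Spec (CommRingCat.of A) := e.hom.left
  haveI : IsIso eL := ‹IsIso e.hom.left›
  let φc : CommRingCat.of A ⟶ Γ(G.left, ⊤) := (Scheme.ΓSpecIso (CommRingCat.of A)).inv ≫ eL.appTop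
  haveI : IsIso eL.appTop := inferInstanceAs (IsIso (eL.app ⊤))
  haveI : IsIso φc := inferInstance
  let φ : A →+* Γ(G.left, ⊤) := φc.hom
  have hφ : Function.Bijective φ := (ConcreteCategory.isIso_iff_bijective φc).1 inferInstance
  have hend : ∀ (x : WithConv (A →ₐ[k] A)) (R : G ⟶ G), R ≫ e.hom = e.hom ≫ Spec.mapMulEquiv x →
      ∀ a, R.left.appTop.hom (φ a) = φ (x.ofConv a) := by
    intro x R hR a
    have h1 : R.left ≫ eL = eL ≫ Spec.map (CommRingCat.ofHom x.ofConv.toRingHom) :=
      congrArg CommaMorphism.left hR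
    have h2 := congrArg (fun m => m.appTop.hom ((Scheme.ΓSpecIso (CommRingCat.of A)).inv.hom a)) h1
    rw [Scheme.Hom.comp_appTop, Scheme.Hom.comp_appTop] at h2
    refine h2.trans ?_
    show eL.appTop.hom _ = eL.appTop.hom _
    congr 1
    exact congrArg (fun m => m.hom a) (Scheme.ΓSpecIso_inv_naturality (CommRingCat.ofHom x.ofConv.toRingHom)).symm
  let pt : WithConv (A →ₐ[k] k) → (𝟙_ (Over (Spec (CommRingCat.of k))) ⟶ G) :=
    fun g => unitIso.inv ≫ Spec.mapMulEquiv g ≫ e.inv
  let C' : Subalgebra k A :=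
    { C.comap φ with
      algebraMap_mem' := fun r => by
        show φ (algebraMap k A r) ∈ C
        have h1 : eL ≫ Spec.map (CommRingCat.ofHom (algebraMap k A)) = G.hom := Over.w e.hom
        have h2 := congrArg (fun m => m.appTop.hom ((Scheme.ΓSpecIso (CommRingCat.of k)).inv.hom r)) h1
        rw [Scheme.Hom.comp_appTop] at h2
        refine (congrArg (· ∈ C) ?_).mpr (hk ((Scheme.ΓSpecIso (CommRingCat.of k)).inv.hom r))
        refine Eq.trans ?_ h2
        show eL.appTop.hom _ = eL.appTop.hom _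
        congr 1
        exact congrArg (fun m => m.hom r) (Scheme.ΓSpecIso_inv_naturality (CommRingCat.ofHom (algebraMap k A))) }
  let f' : A := Function.invFun φ f
  have hf' : φ f' = f := Function.rightInverse_invFun hφ.2 f
  have hε : Bialgebra.counitAlgHom k A f' ≠ 0 := by
    intro h0
    have h1 : (1 : 𝟙_ (Over (Spec (CommRingCat.of k))) ⟶ G) ≫ e.hom = unitIso.inv ≫ Spec.mapMulEquiv
        (1 : WithConv (A →ₐ[k] k)) := by rw [MonObj.one_comp, map_one, MonObj.comp_one]
    have h2 : eL ((1 : 𝟙_ (Over (Spec (CommRingCat.of k))) ⟶ G).left (IsLocalRing.closedPoint k)) =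
        PrimeSpectrum.comap (Bialgebra.counitAlgHom k A).toRingHom (IsLocalRing.closedPoint k) := by
      exact congrArg (fun m => m.left (IsLocalRing.closedPoint k)) h1
    have h3 : (1 : 𝟙_ (Over (Spec (CommRingCat.of k))) ⟶ G).left (IsLocalRing.closedPoint k) ∈
        eL ⁻¹ᵁ (Spec (CommRingCat.of A)).basicOpen ((Scheme.ΓSpecIso (CommRingCat.of A)).inv.hom f') := by
      rw [Scheme.preimage_basicOpen]
      rw [← hf'] at hunit
      exact hunit
    rw [basicOpen_eq_of_affine] at h3
    change eL _ ∈ PrimeSpectrum.basicOpen f' at h3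
    rw [h2] at h3
    refine h3 ?_
    show Bialgebra.counitAlgHom k A f' ∈ IsLocalRing.maximalIdeal k
    rw [h0]
    exact zero_mem _
  have hC' : C' = ⊤ := by
    refine eq_top_of_stable C' (fun g c hc => ?_) (fun g c hc => ?_) (fun c hc => ?_)
      (f := (Bialgebra.counitAlgHom k A f')⁻¹ • f') ?_ ?_ fun a => ?_
    · show φ _ ∈ C
      rw [← hend (toConv (rt g)) (rTr (pt g))]
      · exact hr _ _ hc
      · rw [rt, WithConv.toConv_ofConv, map_mul, mapMulEquiv_id, mapMulEquiv_const, rTr, MonObj.mul_comp,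
          MonObj.comp_mul, Category.id_comp, Category.comp_id, comp_toUnit_assoc]
        simp [pt]
    · show φ _ ∈ C
      rw [← hend (toConv (lt' g)) (lTr (pt g))]
      · exact hl _ _ hc
      · rw [lt', WithConv.toConv_ofConv, map_mul, mapMulEquiv_id, mapMulEquiv_const, lTr, MonObj.mul_comp,
          MonObj.comp_mul, Category.id_comp, Category.comp_id, comp_toUnit_assoc]
        simp [pt]
    · show φ _ ∈ C
      have h1 := hend ((toConv (AlgHom.id k A) : WithConv (A →ₐ[k] A))⁻¹) invTr ?_ c
      · exact h1 ▸ hi _ hc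
      · rw [map_inv, mapMulEquiv_id, invTr, GrpObj.inv_comp, GrpObj.comp_inv, Category.id_comp, Category.comp_id]
    · refine C'.smul_mem ?_ _
      show φ f' ∈ C
      rw [hf']; exact hf
    · show Bialgebra.counitAlgHom k A _ = 1
      rw [map_smul, smul_eq_mul, inv_mul_cancel₀ hε]
    · obtain ⟨n, hn⟩ := hloc (φ a)
      refine ⟨n, ?_⟩
      rw [smul_pow, smul_mul_assoc]
      refine C'.smul_mem ?_ _
      show φ _ ∈ C
      rw [map_mul, map_pow, hf']
      exact hn
  refine eq_top_iff.2 fun a _ => ?_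
  obtain ⟨b, rfl⟩ := hφ.2 a
  exact (show b ∈ C' by rw [hC']; trivial)

end Field

end Groth.L08.AffVal
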